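import Mathlib

/-!
The relations known beforehand among six of the generators of a group of Suzuki-sporadic type.
-/

set_option autoImplicit false

namespace CfsgLib.SuzIso

/-- The relations among the generators other than those of the third generator with the second. -/
structure Amal {G : Type*} [Group G] (a b c d f g : G) : Prop where
  a2 : a * a = 1
  b2 : b * b = 1
  c2 : c * c = 1
  d2 : d * d = 1
  f2 : f * f = 1
  g2 : g * g = 1
  ab : (a * b) ^ 5 = 1
  bf : (b * f) ^ 3 = 1
  bg : (b * g) ^ 3 = 1
  fg : (f * g) ^ 4 = 1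
  bfg : (b * f * g) ^ 5 = 1
  ac : a * c = c * a
  ad : a * d = d * a
  af : a * f = f * a
  ag : a * g = g * a
  bd : b * d = d * b
  cf : c * f = f * c
  cg : c * g = g * c
  df : d * f = f * d
  dg : d * g = g * d
  x1 : a = (c * d) ^ 4
  x2 : a = (f * g) ^ 2
  ne_one : a ≠ 1

end CfsgLib.SuzIso
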