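import Cfsg.Agent.Coset.Table
import Cfsg.Agent.SuzIso.P4Data

/-! A coset table used in the identification of a group of Suzuki-sporadic type. -/

set_option autoImplicit false
set_option maxRecDepth 100000
set_option Elab.async false

namespace CfsgLib.SuzIso.P4

open CfsgLib.Coset

/-- The relators. -/
def rels : List (List Nat) := [[0, 0], [1, 1], [2, 2], [3, 3], [0, 1, 0, 1, 0, 1, 0, 1, 0, 1], [0, 2, 0, 2], [0, 3, 0, 3], [1, 2, 1, 2, 1, 2], [1, 3, 1, 3], [2, 3, 2, 3, 2, 3, 2, 3, 2, 3, 2, 3, 2, 3, 2, 3], [0, 3, 2, 3, 2, 3, 2, 3, 2]]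

theorem hR : checkRules rels subs R = true := by decide +kernel
theorem hdefs : checkDefs E 4 14 13231 = true := by decide +kernel
theorem hsteps : checkChunks E id R 4 9 13231 381 C = true := by decide +kernel
theorem htable : checkTable E id (13231 + chunk * 381) 2160 4 12 2 Rep Ref Tb = true := by decide +kernel

variable {G : Type*} [Group G]

/-- The table holds in every group satisfying the relators. -/
theorem table {L : List G} (hL : L.length = 4) (hinv : ∀ x, fl L (id x) = (fl L x)⁻¹)
    (hrel : ∀ w ∈ rels, ev L w = 1) {H : Subgroup G} (hsub : ∀ w ∈ subs, ev L w ∈ H) :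
    TableOK L H E id 2160 Rep Tb :=
  tableOK_of_check hinv hR (hL.symm ▸ hdefs) (hL.symm ▸ hsteps) (hL.symm ▸ htable) hrel hsub

end CfsgLib.SuzIso.P4
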