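import Cfsg.Agent.Coset.Prim

set_option autoImplicit false
set_option maxRecDepth 100000
set_option linter.unusedVariables false

namespace CfsgLib.SuzIso.T3n2

noncomputable def ELeaf (i : Nat) : Nat := (0x50000000000000500000000000005000000000000050000000000000500000000000005000000000000050000000000000500000000000005000000000000050000000000000500000000000005000000000000050000000000000500000000000005000000000000050000000000000500000000000005000000000000050000000000000500000000000005000000000000050000000000000500000000000005000000000000050000000000000500000000000005000000000000050000000000000500000000000005000000000000050000000000000500000000000005000000000000050000000000000500000000000005000000000000050000000000000500000000000005000000000000050000000000000500000000000005000000000000050000000000000500000000000005000000000000050000000000000500000000000005000000000000050000000000000500000000000005000000000000050000000000000500000000000005000000000000050000000000000200000000000005000001000000010000010000010300000100000100000001000001040000000000000300000000000001000000000000000000000000000200000100000005000000000000 : Nat)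
noncomputable def E (i : Nat) : Nat := Nat.shiftRight (ELeaf (Nat.shiftRight i 8)) (Nat.mul 56 (Nat.land i 255))

noncomputable def C (i : Nat) : Nat := (0x500000000000500000000000500000000000500000000000500000000000500000000000500000000000500000000000500000000000500000000000500000000000500000000000500000000000500000000000500000000000500000000000500000000000500000000000500000000000500000000000500000000000500000000000500000000000500000000000500000000000500000000000500000000000500000000000500000000000500000000000500000000000500000000000500000000000500000000000500000000000500000000000500000000000500000000000500000000000500000000000500000000000500000000000500000000000500000000000500000000000500000000000500000000000500000000000500000000000500000000000500000000000500000000000500000000000500000000000500000300001200000200000000000700000300001100000200000700000300000600000300000d00000f000002000006000004000008000003000007000004000002000008000003000003000002000002000004000003000003000001000000000009000000000008000000000007000000000006 : Nat)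

noncomputable def TbLeaf (i : Nat) : Nat := (0x0 : Nat)
noncomputable def Tb (i : Nat) : Nat := Nat.shiftRight (TbLeaf (Nat.shiftRight i 7)) (Nat.mul 120 (Nat.land i 127))

noncomputable def RefLeaf (i : Nat) : Nat := (0xb000009000014000007000005 : Nat)
noncomputable def Ref (i : Nat) : Nat := Nat.shiftRight (RefLeaf (Nat.shiftRight i 7)) (Nat.mul 120 (Nat.land i 127))

noncomputable def Rep0Leaf (i : Nat) : Nat := (0x0 : Nat)
noncomputable def Rep0 (i : Nat) : Nat := Nat.shiftRight (Rep0Leaf (Nat.shiftRight i 8)) (Nat.mul 24 (Nat.land i 255))

noncomputable def Rep (i : Nat) : Nat := Nat.land (Rep0 i) 16777215

noncomputable def ParLeaf (i : Nat) : Nat := (0x0 : Nat)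
noncomputable def Par (i : Nat) : Nat := Nat.shiftRight (ParLeaf (Nat.shiftRight i 8)) (Nat.mul 48 (Nat.land i 255))

def R : CfsgLib.Coset.Tr (List Nat × Nat) := .node (.node (.node (.node (.leaf ([2, 2], 1024)) (.leaf ([255, 3], 1027))) (.node (.leaf ([2, 3, 0, 1, 2, 3, 0, 1], 8716)) (.leaf ([2, 2], 1024)))) (.node (.node (.leaf ([2, 3, 2, 3], 5636)) (.leaf ([2, 2], 1024))) (.node (.leaf ([255, 0], 3)) (.leaf ([2, 2], 1024))))) (.node (.node (.node (.leaf ([2, 0, 2, 0], 3078)) (.leaf ([255, 4], 1539))) (.node (.leaf ([], 9216)) (.leaf ([2, 2], 1024)))) (.node (.node (.leaf ([2, 1, 2, 1, 2, 1], 8194)) (.leaf ([2, 2], 1024))) (.node (.leaf ([255, 1], 515)) (.leaf ([2, 2], 1024)))))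

def subs : List (List Nat) := [[0], [1], [3], [4]]

end CfsgLib.SuzIso.T3n2
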