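import Cfsg.Agent.Coset.Prim

set_option autoImplicit false
set_option maxRecDepth 100000
set_option linter.unusedVariables false

namespace CfsgLib.SuzIso.T3n3

noncomputable def ELeaf (i : Nat) : Nat := (0x500000000000005000000000000050000000000000500000000000005000000000000050000000000000500000000000005000000000000050000000000000500000000000005000000000000050000000000000500000000000005000000000000050000000000000500000000000005000000000000050000000000000500000000000005000000000000050000000000000500000000000005000000000000050000000000000500000000000005000000000000050000000000000500000000000005000000000000050000000000000500000000000005000000000000050000000000000500000000000005000000000000050000000000000500000000000005000000000000050000000000000500000000000005000000000000050000000000000500000000000005000000000000050000000000000500000000000005000000000000050000000000000500000000000005000000000000020000000000000500000000000102000001000001050000030000010100000300000303000003000002020000030000030200000200000203000001000001000000010000010400000000000003000000000000010000000000000000000000000000000003000002010000020000010200000100000005000000000000 : Nat)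
noncomputable def E (i : Nat) : Nat := Nat.shiftRight (ELeaf (Nat.shiftRight i 8)) (Nat.mul 56 (Nat.land i 255))

noncomputable def C (i : Nat) : Nat := (0x800000000000800000000000800000000000800000000000800000000000800000000000800000000000800000000000800000000000800000000000800000000000800000000000800000000000800000000000800000000000800000000000800000000000800000000000800000000000800000000000800000000000800000000000800000000000800000000000800000000000800000000000800000000000800000000000800000000000800000000000800000000000800000000000800000000000800000000000800000000000800000000000800000000000800000000000800000000000800000000000800000000000800000000000800000000000800000000000800000000000800000000000800000000000800000000000800000000000800000300002100000200000000001f00000200000200000000001d00001700001c00000300000000001100000500000700001b00000600000400001100000500000700001b00000a00000100001800000400001200000500001900000500000400001500000400001100001300000200000b00000900000d00000300000500000700000b00000700000600001400000700000300000200000400000200000a00000300000500000500000600000200000c00000300000300000500000200000800000300000300000300000000000c00000000000b00000000000a000000000009 : Nat)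

noncomputable def TbLeaf (i : Nat) : Nat := (0x0 : Nat)
noncomputable def Tb (i : Nat) : Nat := Nat.shiftRight (TbLeaf (Nat.shiftRight i 7)) (Nat.mul 120 (Nat.land i 127))

noncomputable def RefLeaf (i : Nat) : Nat := (0xf00000d00002200000b000009 : Nat)
noncomputable def Ref (i : Nat) : Nat := Nat.shiftRight (RefLeaf (Nat.shiftRight i 7)) (Nat.mul 120 (Nat.land i 127))

noncomputable def Rep0Leaf (i : Nat) : Nat := (0x0 : Nat)
noncomputable def Rep0 (i : Nat) : Nat := Nat.shiftRight (Rep0Leaf (Nat.shiftRight i 8)) (Nat.mul 24 (Nat.land i 255))

noncomputable def Rep (i : Nat) : Nat := Nat.land (Rep0 i) 16777215

noncomputable def ParLeaf (i : Nat) : Nat := (0x0 : Nat)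
noncomputable def Par (i : Nat) : Nat := Nat.shiftRight (ParLeaf (Nat.shiftRight i 8)) (Nat.mul 48 (Nat.land i 255))

def R : CfsgLib.Coset.Tr (List Nat × Nat) := .node (.node (.node (.node (.leaf ([2, 2], 1024)) (.leaf ([], 9216))) (.node (.leaf ([3, 1, 3, 1, 3, 1], 4614)) (.leaf ([255, 4], 1539)))) (.node (.node (.leaf ([0, 2, 0, 2], 3076)) (.leaf ([255, 1], 515))) (.node (.leaf ([1, 2, 1, 2, 1, 2], 8196)) (.leaf ([2, 2], 1024))))) (.node (.node (.node (.leaf ([1, 0, 1, 0, 1, 0, 1, 0, 1, 0], 2562)) (.leaf ([255, 0], 3))) (.node (.leaf ([2, 3, 2, 3], 5636)) (.leaf ([2, 2], 1024)))) (.node (.node (.leaf ([2, 0, 2, 0], 3078)) (.leaf ([255, 3], 1027))) (.node (.leaf ([0, 1, 2, 3, 0, 1, 2, 3, 0, 1, 2, 3], 8704)) (.leaf ([2, 2], 1024)))))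

def subs : List (List Nat) := [[0], [1], [3], [4]]

end CfsgLib.SuzIso.T3n3
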