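import Cfsg.Agent.Coset.Prim

set_option autoImplicit false
set_option maxRecDepth 100000
set_option linter.unusedVariables false

namespace CfsgLib.SuzIso.T55n1

noncomputable def ELeaf (i : Nat) : Nat := (0x500000000000005000000000000050000000000000500000000000005000000000000050000000000000500000000000005000000000000050000000000000500000000000005000000000000050000000000000500000000000005000000000000050000000000000500000000000005000000000000050000000000000500000000000005000000000000050000000000000500000000000005000000000000050000000000000500000000000005000000000000050000000000000500000000000005000000000000050000000000000500000000000005000000000000050000000000000500000000000005000000000000050000000000000500000000000005000000000000050000000000000500000000000005000000000000050000000000000500000000000005000000000000050000000000000500000000000005000000000000050000000000000500000000000005000000000000050000000000000500000000000005000000000000050000000000000500000000000005000000000000050000000000000500000000000005000000000000020000000000000400000000000003000000000000010000000000000000000000000005000000000000 : Nat)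
noncomputable def E (i : Nat) : Nat := Nat.shiftRight (ELeaf (Nat.shiftRight i 8)) (Nat.mul 56 (Nat.land i 255))

noncomputable def C (i : Nat) : Nat := (0x1000000000001000000000001000000000001000000000001000000000001000000000001000000000001000000000001000000000001000000000001000000000001000000000001000000000001000000000001000000000001000000000001000000000001000000000001000000000001000000000001000000000001000000000001000000000001000000000001000000000001000000000001000000000001000000000001000000000001000000000001000000000001000000000001000000000001000000000001000000000001000000000001000000000001000000000001000000000001000000000001000000000001000000000001000000000001000000000001000000000001000000000001000000000001000000000001000000000001000000000001000000000001000000000001000000000001000000000001000000000001000000000001000000000001000000000001000005000002000004000003000000000000000005000000000004000000000003000000000002 : Nat)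

noncomputable def TbLeaf (i : Nat) : Nat := (0x0 : Nat)
noncomputable def Tb (i : Nat) : Nat := Nat.shiftRight (TbLeaf (Nat.shiftRight i 7)) (Nat.mul 120 (Nat.land i 127))

noncomputable def RefLeaf (i : Nat) : Nat := (0x900000700000b000005000003 : Nat)
noncomputable def Ref (i : Nat) : Nat := Nat.shiftRight (RefLeaf (Nat.shiftRight i 7)) (Nat.mul 120 (Nat.land i 127))

noncomputable def Rep0Leaf (i : Nat) : Nat := (0x0 : Nat)
noncomputable def Rep0 (i : Nat) : Nat := Nat.shiftRight (Rep0Leaf (Nat.shiftRight i 8)) (Nat.mul 24 (Nat.land i 255))

noncomputable def Rep (i : Nat) : Nat := Nat.land (Rep0 i) 16777215

noncomputable def ParLeaf (i : Nat) : Nat := (0x0 : Nat)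
noncomputable def Par (i : Nat) : Nat := Nat.shiftRight (ParLeaf (Nat.shiftRight i 8)) (Nat.mul 48 (Nat.land i 255))

def R : CfsgLib.Coset.Tr (List Nat × Nat) := .node (.node (.node (.leaf ([1, 0, 1, 2], 9222)) (.leaf ([255, 3], 1027))) (.node (.leaf ([255, 0], 3)) (.leaf ([1, 0, 1, 2], 9222)))) (.node (.node (.leaf ([], 9728)) (.leaf ([255, 4], 1539))) (.node (.leaf ([255, 1], 515)) (.leaf ([1, 0, 1, 2], 9222))))

def subs : List (List Nat) := [[0], [1], [3], [4]]

end CfsgLib.SuzIso.T55n1
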