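import Cfsg.Agent.SuzIso.Amal
import Cfsg.Agent.SuzIso.T44
import Cfsg.Agent.SuzIso.T45
import Cfsg.Agent.SuzIso.T55n1
import Cfsg.Agent.SuzIso.T55n2
import Cfsg.Agent.SuzIso.T55n3
import Cfsg.Agent.SuzIso.T55n4
import Cfsg.Agent.SuzIso.T55n5
import Cfsg.Agent.SuzIso.T3n1
import Cfsg.Agent.SuzIso.T3n2
import Cfsg.Agent.SuzIso.T3n3
import Cfsg.Agent.SuzIso.T3n4
import Cfsg.Agent.SuzIso.P4
import Cfsg.Agent.SuzIso.K1

/-!
The choice of the third generator by coset tables, and the element in the centraliser of the first three.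
-/

set_option autoImplicit false
set_option maxRecDepth 100000
set_option linter.style.haveILetI false
set_option linter.unusedSectionVars false

namespace CfsgLib.SuzIso

open CfsgLib.Coset Subgroup

variable {G : Type*} [Group G]

theorem fl_inv_of_sq {L : List G} (h : ∀ u ∈ L, u * u = 1) (x : ℕ) : fl L (id x) = (fl L x)⁻¹ := by
  show fl L x = (fl L x)⁻¹
  rcases lt_or_ge x L.length with hx | hx
  · rw [fl, List.getD_eq_getElem _ _ hx]
    exact eq_inv_of_mul_eq_one_left (h _ (List.getElem_mem hx))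
  · rw [fl_of_le L hx, inv_one]

theorem ev_rep (L : List G) (w : List ℕ) : ∀ n : ℕ, ev L (List.replicate n w).flatten = ev L w ^ n
  | 0 => by simp
  | n + 1 => by rw [List.replicate_succ, List.flatten_cons, ev_append, ev_rep L w n, pow_succ']

theorem sq_comm {u v : G} (hu : u * u = 1) (hv : v * v = 1) (h : u * v = v * u) : (u * v) ^ 2 = 1 := by
  rw [pow_two]
  calc u * v * (u * v) = u * (v * u) * v := by group
    _ = u * u * (v * v) := by rw [← h]; group
    _ = 1 := by rw [hu, hv, one_mul]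

theorem comm_of_sq {u v : G} (hu : u * u = 1) (hv : v * v = 1) (h : (u * v) ^ 2 = 1) : u * v = v * u := by
  rw [pow_two] at h
  calc u * v = (u * v)⁻¹ := eq_inv_of_mul_eq_one_left h
    _ = v⁻¹ * u⁻¹ := mul_inv_rev _ _
    _ = v * u := by rw [inv_eq_of_mul_eq_one_right hu, inv_eq_of_mul_eq_one_right hv]

section

variable {a b c d f g : G}

theorem ev_base (A : Amal a b c d f g) : ∀ w ∈ ([[0, 0], [1, 1], [2, 2], [3, 3], [4, 4],
    (List.replicate 5 [0, 1]).flatten, (List.replicate 2 [0, 2]).flatten, (List.replicate 2 [0, 3]).flatten,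
    (List.replicate 2 [0, 4]).flatten, (List.replicate 3 [1, 3]).flatten, (List.replicate 3 [1, 4]).flatten,
    (List.replicate 2 [2, 3]).flatten, (List.replicate 2 [2, 4]).flatten, (List.replicate 4 [3, 4]).flatten,
    0 :: (List.replicate 2 [4, 3]).flatten, (List.replicate 5 [1, 3, 4]).flatten] : List (List ℕ)),
    ev [a, b, c, f, g] w = 1 := by
  have hx : a * (g * f) ^ 2 = 1 := by
    have h : (g * f) ^ 2 = ((f * g) ^ 2)⁻¹ := by
      rw [← inv_pow, mul_inv_rev, inv_eq_of_mul_eq_one_right A.f2, inv_eq_of_mul_eq_one_right A.g2]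
    rw [h, ← A.x2, mul_inv_cancel]
  simp only [List.forall_mem_cons, List.not_mem_nil, false_implies, implies_true, and_true, ev_cons, ev_rep, ev_nil]
  simp only [fl, List.getD_cons_zero, List.getD_cons_succ, mul_one]
  exact ⟨A.a2, A.b2, A.c2, A.f2, A.g2, A.ab, sq_comm A.a2 A.c2 A.ac, sq_comm A.a2 A.f2 A.af,
    sq_comm A.a2 A.g2 A.ag, A.bf, A.bg, sq_comm A.c2 A.f2 A.cf, sq_comm A.c2 A.g2 A.cg, A.fg, hx,
    by rw [← mul_assoc]; exact A.bfg⟩

theorem Amal.sq_mem (A : Amal a b c d f g) : ∀ u ∈ [a, b, c, f, g], u * u = 1 := by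
  simp only [List.forall_mem_cons, List.not_mem_nil, false_implies, implies_true, and_true]
  exact ⟨A.a2, A.b2, A.c2, A.f2, A.g2⟩

/-- A single coset forces the first generator to be trivial. -/
theorem Amal.not_one_coset (A : Amal a b c d f g) {E : ℕ → ℕ} {Rep Tb : ℕ → ℕ}
    (h : TableOK [a, b, c, f, g] (closure {a, b, f, g}) E id 1 Rep Tb) : False := by
  have h0 := h.step 0 Nat.zero_lt_one 2 (by simp)
  have e : tget Tb 0 2 = 0 := Nat.lt_one_iff.1 (h.lt 0 Nat.zero_lt_one 2 (by simp))
  rw [e, h.zero, rp_zero, one_mul, inv_one, mul_one] at h0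
  have hle : closure ({a, b, f, g} : Set G) ≤ centralizer {d} := by
    rw [closure_le]
    intro u hu
    simp only [Set.mem_insert_iff, Set.mem_singleton_iff] at hu
    refine mem_centralizer_singleton_iff.2 ?_
    rcases hu with rfl | rfl | rfl | rfl
    exacts [A.ad, A.bd, A.df.symm, A.dg.symm]
  have hcd : c * d = d * c := mem_centralizer_singleton_iff.1 (hle h0)
  refine A.ne_one ?_
  rw [A.x1, show (4 : ℕ) = 2 * 2 from rfl, pow_mul, sq_comm A.c2 A.d2 hcd, one_pow]

theorem ev_sub (a b c f g : G) : ∀ w ∈ ([[0], [1], [3], [4]] : List (List ℕ)),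
    ev [a, b, c, f, g] w ∈ closure ({a, b, f, g} : Set G) := by
  simp only [List.forall_mem_cons, List.not_mem_nil, false_implies, implies_true, and_true, ev_cons, ev_nil]
  simp only [fl, List.getD_cons_zero, List.getD_cons_succ, mul_one]
  refine ⟨?_, ?_, ?_, ?_⟩ <;> exact subset_closure (by simp)

/-- The extended relators are satisfied. -/
theorem Amal.ev_ext (A : Amal a b c d f g) {ws rels : List (List ℕ)} (hws : ∀ w ∈ ws, ev [a, b, c, f, g] w = 1)
    (h : rels = [[0, 0], [1, 1], [2, 2], [3, 3], [4, 4],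
    (List.replicate 5 [0, 1]).flatten, (List.replicate 2 [0, 2]).flatten, (List.replicate 2 [0, 3]).flatten,
    (List.replicate 2 [0, 4]).flatten, (List.replicate 3 [1, 3]).flatten, (List.replicate 3 [1, 4]).flatten,
    (List.replicate 2 [2, 3]).flatten, (List.replicate 2 [2, 4]).flatten, (List.replicate 4 [3, 4]).flatten,
    0 :: (List.replicate 2 [4, 3]).flatten, (List.replicate 5 [1, 3, 4]).flatten] ++ ws) :
    ∀ w ∈ rels, ev [a, b, c, f, g] w = 1 := fun w hw => by
  rw [h, List.mem_append] at hw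
  exact hw.elim (ev_base A w) (hws w)

theorem Amal.swap (A : Amal a b c d f g) : Amal a b (a * c) d f g where
  a2 := A.a2
  b2 := A.b2
  c2 := by rw [← pow_two]; exact sq_comm A.a2 A.c2 A.ac
  d2 := A.d2
  f2 := A.f2
  g2 := A.g2
  ab := A.ab
  bf := A.bf
  bg := A.bg
  fg := A.fg
  bfg := A.bfg
  ac := ((Commute.refl a).mul_right A.ac).eq
  ad := A.ad
  af := A.af
  ag := A.ag
  bd := A.bd
  cf := ((show Commute a f from A.af).mul_left A.cf).eq
  cg := ((show Commute a g from A.ag).mul_left A.cg).eq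
  df := A.df
  dg := A.dg
  x1 := by
    rw [mul_assoc, ((show Commute a c from A.ac).mul_right A.ad).mul_pow, ← A.x1, show (4 : ℕ) = 2 * 2 from rfl,
      pow_mul, pow_two a, A.a2, one_pow, one_mul]
  x2 := A.x2
  ne_one := A.ne_one

variable (A : Amal a b c d f g) (H : Subgroup G) (ha : a ∈ H) (hb : b ∈ H) (hc : c ∈ H)
variable (hord : ∀ x ∈ H, ∀ y ∈ H, x * x = 1 → y * y = 1 → ∃ m ∈ [1, 2, 3, 4, 5], (x * y) ^ m = 1)
variable (h5 : c * (a * b) ≠ a * b * c)
include A h5

theorem Amal.two_absurd (hm : b * c = 1 ∨ (b * c) ^ 2 = 1) : False := by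
  have hbc : b * c = c * b := by
    rcases hm with e | e
    · rw [show c = b by rw [← inv_eq_of_mul_eq_one_right e, inv_eq_of_mul_eq_one_right A.b2]]
    · exact comm_of_sq A.b2 A.c2 e
  refine h5 ?_
  rw [← mul_assoc, ← A.ac, mul_assoc, ← hbc, ← mul_assoc]

theorem Amal.ab_ne : a * b ≠ 1 := fun e => h5 (by rw [e, mul_one, one_mul])

theorem Amal.not_four_four (h1 : (b * c) ^ 4 = 1) (h2 : (b * (a * c)) ^ 4 = 1) : False := by
  haveI : Fact (Nat.Prime 5) := ⟨Nat.prime_five⟩
  have h := T44.table (L := [a, b, c, f, g]) rfl (fl_inv_of_sq A.sq_mem)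
    (A.ev_ext (ws := [(List.replicate 4 [1, 2]).flatten, (List.replicate 4 [1, 0, 2]).flatten]) (by
      simp only [List.forall_mem_cons, List.not_mem_nil, false_implies, implies_true, and_true, ev_cons, ev_rep, ev_nil]
      simp only [fl, List.getD_cons_zero, List.getD_cons_succ, mul_one]
      exact ⟨h1, h2⟩) rfl) (H := ⊥) (by simp [T44.subs])
  obtain ⟨hfin, hle⟩ := h.finite_card_le (by norm_num) bot_le inferInstance (m := 1) (by simp)
  haveI := hfin
  have hmem : a * b ∈ closure {x | x ∈ [a, b, c, f, g]} :=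
    mul_mem (subset_closure (by simp)) (subset_closure (by simp))
  have hd := orderOf_dvd_natCard (⟨a * b, hmem⟩ : closure {x | x ∈ [a, b, c, f, g]})
  rw [Subgroup.orderOf_mk, orderOf_eq_prime A.ab (A.ab_ne h5)] at hd
  have := Nat.le_of_dvd Nat.card_pos hd
  omega

include ha hb hc

omit h5 in
theorem Amal.not_four_five (hc1 : ∀ x ∈ H, x * c = c * x → x * a = a * x)
    (h1 : (b * c) ^ 4 = 1) (h2 : (b * (a * c)) ^ 5 = 1) : False := by
  have e : b * c * b * c = c * b * c * b := by
    have h3 : b * c * b * c * (b * c * b * c) = 1 := by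
      rw [← h1, pow_succ, pow_succ, pow_succ, pow_one]; group
    calc b * c * b * c = (b * c * b * c)⁻¹ := eq_inv_of_mul_eq_one_left h3
      _ = c⁻¹ * b⁻¹ * c⁻¹ * b⁻¹ := by group
      _ = _ := by rw [inv_eq_of_mul_eq_one_right A.b2, inv_eq_of_mul_eq_one_right A.c2]
  have hu := hc1 (b * c * b) (mul_mem (mul_mem hb hc) hb) (by rw [e]; group)
  have hu2 : b * c * b * (b * c * b) = 1 := by
    calc b * c * b * (b * c * b) = b * c * (b * b) * c * b := by group
      _ = b * (c * c) * b := by rw [A.b2]; group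
      _ = 1 := by rw [A.c2, mul_one, A.b2]
  refine A.not_one_coset (T45.table (L := [a, b, c, f, g]) rfl (fl_inv_of_sq A.sq_mem)
    (A.ev_ext (ws := [(List.replicate 4 [1, 2]).flatten, (List.replicate 5 [1, 0, 2]).flatten,
      (List.replicate 2 [0, 1, 2, 1]).flatten]) (by
      simp only [List.forall_mem_cons, List.not_mem_nil, false_implies, implies_true, and_true, ev_cons, ev_rep, ev_nil]
      simp only [fl, List.getD_cons_zero, List.getD_cons_succ, mul_one]
      refine ⟨h1, h2, ?_⟩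
      rw [← mul_assoc b c b]
      exact sq_comm A.a2 hu2 hu.symm) rfl) (ev_sub a b c f g))

include hord

omit h5 in
theorem Amal.not_five_five (h1 : (b * c) ^ 5 = 1) (h2 : (b * (a * c)) ^ 5 = 1) : False := by
  obtain ⟨n, hn, e⟩ := hord a ha (b * c * b) (mul_mem (mul_mem hb hc) hb) A.a2 (by
    calc b * c * b * (b * c * b) = b * c * (b * b) * c * b := by group
      _ = b * (c * c) * b := by rw [A.b2]; group
      _ = 1 := by rw [A.c2, mul_one, A.b2])
  rw [mul_assoc b c b] at e
  have hws : ∀ w ∈ [(List.replicate 5 [1, 2]).flatten, (List.replicate 5 [1, 0, 2]).flatten,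
      (List.replicate n [0, 1, 2, 1]).flatten], ev [a, b, c, f, g] w = 1 := by
    simp only [List.forall_mem_cons, List.not_mem_nil, false_implies, implies_true, and_true, ev_cons, ev_rep, ev_nil]
    simp only [fl, List.getD_cons_zero, List.getD_cons_succ, mul_one]
    exact ⟨h1, h2, e⟩
  simp only [List.mem_cons, List.not_mem_nil, or_false] at hn
  rcases hn with rfl | rfl | rfl | rfl | rfl
  · exact A.not_one_coset (T55n1.table rfl (fl_inv_of_sq A.sq_mem) (A.ev_ext hws rfl) (ev_sub a b c f g))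
  · exact A.not_one_coset (T55n2.table rfl (fl_inv_of_sq A.sq_mem) (A.ev_ext hws rfl) (ev_sub a b c f g))
  · exact A.not_one_coset (T55n3.table rfl (fl_inv_of_sq A.sq_mem) (A.ev_ext hws rfl) (ev_sub a b c f g))
  · exact A.not_one_coset (T55n4.table rfl (fl_inv_of_sq A.sq_mem) (A.ev_ext hws rfl) (ev_sub a b c f g))
  · exact A.not_one_coset (T55n5.table rfl (fl_inv_of_sq A.sq_mem) (A.ev_ext hws rfl) (ev_sub a b c f g))

omit h5 in
theorem Amal.five_of_three (hf : f ∈ H) (h3 : (b * c) ^ 3 = 1) : (a * b * c * f) ^ 5 = 1 := by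
  have hi2 : c * f * a * (c * f * a) = 1 := by
    rw [← pow_two, ((show Commute c a from A.ac.symm).mul_left A.af.symm).mul_pow,
      (show Commute c f from A.cf).mul_pow, pow_two, pow_two, pow_two, A.c2, A.f2, A.a2, one_mul, one_mul]
  obtain ⟨n, hn, e⟩ := hord b hb (c * f * a) (mul_mem (mul_mem hc hf) ha) A.b2 hi2
  have e2 : a * b * c * f = a * (b * (c * f * a)) * a⁻¹ := by group
  have he : (a * b * c * f) ^ n = 1 := by rw [e2, conj_pow, e, mul_one, mul_inv_cancel]
  have hws : ∀ w ∈ [(List.replicate 3 [1, 2]).flatten, (List.replicate n [0, 1, 2, 3]).flatten],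
      ev [a, b, c, f, g] w = 1 := by
    simp only [List.forall_mem_cons, List.not_mem_nil, false_implies, implies_true, and_true, ev_cons, ev_rep, ev_nil]
    simp only [fl, List.getD_cons_zero, List.getD_cons_succ, mul_one, ← mul_assoc]
    exact ⟨h3, he⟩
  simp only [List.mem_cons, List.not_mem_nil, or_false] at hn
  rcases hn with rfl | rfl | rfl | rfl | rfl
  · exact (A.not_one_coset (T3n1.table rfl (fl_inv_of_sq A.sq_mem) (A.ev_ext hws rfl) (ev_sub a b c f g))).elim
  · exact (A.not_one_coset (T3n2.table rfl (fl_inv_of_sq A.sq_mem) (A.ev_ext hws rfl) (ev_sub a b c f g))).elim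
  · exact (A.not_one_coset (T3n3.table rfl (fl_inv_of_sq A.sq_mem) (A.ev_ext hws rfl) (ev_sub a b c f g))).elim
  · exact (A.not_one_coset (T3n4.table rfl (fl_inv_of_sq A.sq_mem) (A.ev_ext hws rfl) (ev_sub a b c f g))).elim
  · exact he

end

/-- One of the two candidates for the third generator satisfies the relations. -/
theorem exists_c {a b c d f g : G} (A : Amal a b c d f g) (H : Subgroup G) (ha : a ∈ H) (hb : b ∈ H) (hc : c ∈ H)
    (hf : f ∈ H) (_hg : g ∈ H)
    (hord : ∀ x ∈ H, ∀ y ∈ H, x * x = 1 → y * y = 1 → ∃ m ∈ [1, 2, 3, 4, 5], (x * y) ^ m = 1)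
    (hc1 : ∀ x ∈ H, x * c = c * x → x * a = a * x)
    (hc2 : ∀ x ∈ H, x * (a * c) = a * c * x → x * a = a * x)
    (h5 : c * (a * b) ≠ a * b * c) (h5' : a * c * (a * b) ≠ a * b * (a * c)) :
    ∃ c', (c' = c ∨ c' = a * c) ∧ Amal a b c' d f g ∧ (b * c') ^ 3 = 1 ∧ (a * b * c' * f) ^ 5 = 1 := by
  have B := A.swap
  have hac := mul_mem ha hc
  have e3 : a * (a * c) = c := by rw [← mul_assoc, A.a2, one_mul]
  suffices h : (b * c) ^ 3 = 1 ∨ (b * (a * c)) ^ 3 = 1 by
    rcases h with h | h
    · exact ⟨c, Or.inl rfl, A, h, A.five_of_three H ha hb hc hord hf h⟩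
    · exact ⟨a * c, Or.inr rfl, B, h, B.five_of_three H ha hb hac hord hf h⟩
  obtain ⟨m, hm, e⟩ := hord b hb c hc A.b2 A.c2
  obtain ⟨m2, hm2, e'⟩ := hord b hb (a * c) hac A.b2 B.c2
  simp only [List.mem_cons, List.not_mem_nil, or_false] at hm hm2
  rcases hm with rfl | rfl | rfl | rfl | rfl
  · exact (A.two_absurd h5 (Or.inl (by simpa using e))).elim
  · exact (A.two_absurd h5 (Or.inr e)).elim
  · exact Or.inl e
  all_goals rcases hm2 with rfl | rfl | rfl | rfl | rfl
  all_goals first
    | exact Or.inr e'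
    | exact (B.two_absurd h5' (Or.inl (by simpa using e'))).elim
    | exact (B.two_absurd h5' (Or.inr e')).elim
    | exact (A.not_four_four h5 e e').elim
    | exact (A.not_four_five H ha hb hc hc1 e e').elim
    | exact (B.not_four_five H ha hb hac hc2 e' (by rw [e3]; exact e)).elim
    | exact (A.not_five_five H ha hb hc hord e e').elim

theorem ev_eq_of_follow {L : List G} {E : ℕ → ℕ} {n : ℕ} {Rep Tb : ℕ → ℕ}
    (h : TableOK L (⊥ : Subgroup G) E id n Rep Tb) (hn : 0 < n) {w w' : List ℕ} (hw : ∀ l ∈ w, l < L.length)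
    (hw' : ∀ l ∈ w', l < L.length) (e : follow (tget Tb) 0 w = follow (tget Tb) 0 w') : ev L w = ev L w' := by
  have h1 := h.mem_of_follow w 0 hn hw
  have h2 := h.mem_of_follow w' 0 hn hw'
  rw [h.zero, rp_zero, one_mul, mem_bot, mul_inv_eq_one] at h1 h2
  rw [h1, h2, e]

theorem finite_dihedral {a b : G} (ha : a * a = 1) (hb : b * b = 1) (hab : (a * b) ^ 5 = 1) :
    Finite (closure {a, b} : Subgroup G) ∧ Nat.card (closure {a, b} : Subgroup G) ≤ 10 := by
  have hinv : a * (a * b) * a⁻¹ = (a * b)⁻¹ := by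
    rw [mul_inv_rev, inv_eq_of_mul_eq_one_right ha, inv_eq_of_mul_eq_one_right hb, ← mul_assoc, ha, one_mul]
  have ha' : ∀ i : ℕ, a * (a * b) ^ i = (a * b) ^ (4 * i) * a := fun i => by
    rw [pow_mul, show (a * b) ^ 4 = (a * b)⁻¹ from
      (inv_eq_of_mul_eq_one_right (by rw [← pow_succ', hab])).symm]
    rw [← hinv, conj_pow]; group
  have key : ∀ x ∈ (closure {a, b} : Subgroup G), ∃ p : Fin 5 × Fin 2, (a * b) ^ p.1.val * a ^ p.2.val = x := by
    have mk : ∀ (i : ℕ) (j : Fin 2), ∃ p : Fin 5 × Fin 2, (a * b) ^ p.1.val * a ^ p.2.val = (a * b) ^ i * a ^ j.val :=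
      fun i j => ⟨(⟨i % 5, Nat.mod_lt _ (by norm_num)⟩, j), by
        conv_rhs => rw [← Nat.mod_add_div i 5, pow_add, pow_mul, hab, one_pow, mul_one]⟩
    have hA : ∀ x, (∃ p : Fin 5 × Fin 2, (a * b) ^ p.1.val * a ^ p.2.val = x) →
        ∃ p : Fin 5 × Fin 2, (a * b) ^ p.1.val * a ^ p.2.val = a * x := by
      rintro _ ⟨⟨i, j⟩, rfl⟩
      rw [← mul_assoc, ha', mul_assoc, ← pow_succ']
      fin_cases j
      · exact mk _ 1
      · simpa [pow_two, ha] using mk (4 * i.val) 0
    have hR : ∀ x, (∃ p : Fin 5 × Fin 2, (a * b) ^ p.1.val * a ^ p.2.val = x) →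
        ∃ p : Fin 5 × Fin 2, (a * b) ^ p.1.val * a ^ p.2.val = a * b * x := by
      rintro _ ⟨⟨i, j⟩, rfl⟩
      rw [← mul_assoc, ← pow_succ']
      exact mk _ j
    have hB : ∀ x, (∃ p : Fin 5 × Fin 2, (a * b) ^ p.1.val * a ^ p.2.val = x) →
        ∃ p : Fin 5 × Fin 2, (a * b) ^ p.1.val * a ^ p.2.val = b * x := fun x hx => by
      have := hA _ (hR x hx)
      rwa [← mul_assoc, ← mul_assoc, ha, one_mul] at this
    intro x hx
    induction hx using closure_induction_left with
    | one => exact ⟨(0, 0), by simp⟩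
    | mul_left u hu v _ ih =>
      simp only [Set.mem_insert_iff, Set.mem_singleton_iff] at hu
      rcases hu with rfl | rfl
      exacts [hA v ih, hB v ih]
    | inv_mul_cancel u hu v _ ih =>
      simp only [Set.mem_insert_iff, Set.mem_singleton_iff] at hu
      rcases hu with rfl | rfl
      · rw [inv_eq_of_mul_eq_one_right ha]; exact hA v ih
      · rw [inv_eq_of_mul_eq_one_right hb]; exact hB v ih
  have hsub : ((closure {a, b} : Subgroup G) : Set G) ⊆
      Set.range fun p : Fin 5 × Fin 2 => (a * b) ^ p.1.val * a ^ p.2.val := key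
  have hfin := (Set.finite_range _).subset hsub
  refine ⟨hfin.to_subtype, ?_⟩
  calc Nat.card (closure {a, b} : Subgroup G)
      ≤ Nat.card (Set.range fun p : Fin 5 × Fin 2 => (a * b) ^ p.1.val * a ^ p.2.val) :=
        Nat.card_mono (Set.finite_range _) hsub
    _ ≤ Nat.card (Fin 5 × Fin 2) := Finite.card_range_le _
    _ = 10 := by simp

/-- The element made from four of the generators commutes with the first two and is not trivial. -/
theorem k_facts {a b c d e f g : G} (A : Amal a b c d f g) (bc : (b * c) ^ 3 = 1) (de : (d * e) ^ 3 = 1)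
    (dene : d * e ≠ 1) (e2 : e * e = 1) (ae : a * e = e * a) (be : b * e = e * b) (ce : c * e = e * c) :
    (b * c * d * c * d) ^ 5 * a = a * (b * c * d * c * d) ^ 5 ∧
      (b * c * d * c * d) ^ 5 * b = b * (b * c * d * c * d) ^ 5 ∧ (b * c * d * c * d) ^ 5 ≠ 1 := by
  have hcd : (c * d) ^ 8 = 1 := by
    rw [show (8 : ℕ) = 4 * 2 from rfl, pow_mul, ← A.x1, pow_two, A.a2]
  have hdc : a * (d * c) ^ 4 = 1 := by
    have h : (d * c) ^ 4 = ((c * d) ^ 4)⁻¹ := by
      rw [← inv_pow, mul_inv_rev, inv_eq_of_mul_eq_one_right A.c2, inv_eq_of_mul_eq_one_right A.d2]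
    rw [h, ← A.x1, mul_inv_cancel]
  have ad2 := sq_comm A.a2 A.d2 A.ad
  have ac2 := sq_comm A.a2 A.c2 A.ac
  have bd2 := sq_comm A.b2 A.d2 A.bd
  have h := P4.table (L := [a, b, c, d]) rfl
    (fl_inv_of_sq (by simp [A.a2, A.b2, A.c2, A.d2])) (H := ⊥) (by
      intro w hw
      rw [show P4.rels = [[0, 0], [1, 1], [2, 2], [3, 3], (List.replicate 5 [0, 1]).flatten,
        (List.replicate 2 [0, 2]).flatten, (List.replicate 2 [0, 3]).flatten, (List.replicate 3 [1, 2]).flatten,
        (List.replicate 2 [1, 3]).flatten, (List.replicate 8 [2, 3]).flatten,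
        0 :: (List.replicate 4 [3, 2]).flatten] from rfl] at hw
      revert w
      simp only [List.forall_mem_cons, List.not_mem_nil, false_implies, implies_true, and_true, ev_cons, ev_rep, ev_nil]
      simp only [fl, List.getD_cons_zero, List.getD_cons_succ, mul_one]
      exact ⟨A.a2, A.b2, A.c2, A.d2, A.ab, ac2, ad2, bc, bd2, hcd, hdc⟩) (by simp [P4.subs])
  have hk : ev [a, b, c, d] (List.replicate 5 [1, 2, 3, 2, 3]).flatten = (b * c * d * c * d) ^ 5 := by
    simp only [ev_rep, ev_cons, ev_nil]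
    simp only [fl, List.getD_cons_zero, List.getD_cons_succ, mul_one, ← mul_assoc]
  have hla : ev [a, b, c, d] [0] = a := by simp [fl]
  have hlb : ev [a, b, c, d] [1] = b := by simp [fl]
  refine ⟨?_, ?_, fun hk1 => ?_⟩
  · have e1 := ev_eq_of_follow h (by norm_num) (w := (List.replicate 5 [1, 2, 3, 2, 3]).flatten ++ [0])
      (w' := [0] ++ (List.replicate 5 [1, 2, 3, 2, 3]).flatten) (by simp only [List.length_cons, List.length_nil]; decide) (by simp only [List.length_cons, List.length_nil]; decide)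
      (by decide +kernel)
    rwa [ev_append, ev_append, hk, hla] at e1
  · have e1 := ev_eq_of_follow h (by norm_num) (w := (List.replicate 5 [1, 2, 3, 2, 3]).flatten ++ [1])
      (w' := [1] ++ (List.replicate 5 [1, 2, 3, 2, 3]).flatten) (by simp only [List.length_cons, List.length_nil]; decide) (by simp only [List.length_cons, List.length_nil]; decide)
      (by decide +kernel)
    rwa [ev_append, ev_append, hk, hlb] at e1
  · have ae2 := sq_comm A.a2 e2 ae
    have be2 := sq_comm A.b2 e2 be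
    have ce2 := sq_comm A.c2 e2 ce
    have h' := K1.table (L := [a, b, c, d, e]) rfl (fl_inv_of_sq (by simp [A.a2, A.b2, A.c2, A.d2, e2]))
      (H := closure {a, b}) (by
      intro w hw
      rw [show K1.rels = [[0, 0], [1, 1], [2, 2], [3, 3], [4, 4], (List.replicate 5 [0, 1]).flatten,
        (List.replicate 2 [0, 2]).flatten, (List.replicate 2 [0, 3]).flatten, (List.replicate 2 [0, 4]).flatten,
        (List.replicate 3 [1, 2]).flatten, (List.replicate 2 [1, 3]).flatten, (List.replicate 2 [1, 4]).flatten,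
        (List.replicate 8 [2, 3]).flatten, (List.replicate 2 [2, 4]).flatten, (List.replicate 3 [3, 4]).flatten,
        0 :: (List.replicate 4 [3, 2]).flatten, (List.replicate 5 [1, 2, 3, 2, 3]).flatten] from rfl] at hw
      revert w
      simp only [List.forall_mem_cons, List.not_mem_nil, false_implies, implies_true, and_true, ev_cons, ev_rep, ev_nil]
      simp only [fl, List.getD_cons_zero, List.getD_cons_succ, mul_one]
      exact ⟨A.a2, A.b2, A.c2, A.d2, e2, A.ab, ac2, ad2, ae2, bc, bd2, be2, hcd, ce2, de, hdc,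
        by rw [← mul_assoc, ← mul_assoc, ← mul_assoc]; exact hk1⟩) (by
      simp only [K1.subs, List.forall_mem_cons, List.not_mem_nil, false_implies, implies_true, and_true, ev_cons, ev_nil]
      simp only [fl, List.getD_cons_zero, List.getD_cons_succ, mul_one]
      exact ⟨subset_closure (by simp), subset_closure (by simp)⟩)
    obtain ⟨hf1, hc10⟩ := finite_dihedral A.a2 A.b2 A.ab
    obtain ⟨hf2, hle⟩ := h'.finite_card_le (by norm_num) (closure_mono (by
      intro x hx; simp only [Set.mem_insert_iff, Set.mem_singleton_iff] at hx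
      rcases hx with rfl | rfl <;> simp)) hf1 hc10
    haveI := hf2
    set K := closure {x | x ∈ [a, b, c, d, e]}
    have hd : ∀ {u : G}, u ∈ K → orderOf u ∣ Nat.card K := fun {u} hu => by
      rw [← Subgroup.orderOf_mk u hu]; exact orderOf_dvd_natCard _
    have hg : ∀ {u : G}, u ∈ [a, b, c, d, e] → u ∈ K := fun h => subset_closure h
    have hab1 : a * b ≠ 1 := by
      intro e'
      have hb : b = a := by rw [← inv_eq_of_mul_eq_one_right e', inv_eq_of_mul_eq_one_right A.a2]
      have hcc : c = a := by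
        have h3 := bc
        rw [hb, (show Commute a c from A.ac).mul_pow, pow_three', pow_three', A.a2, A.c2, one_mul, one_mul] at h3
        rw [← inv_eq_of_mul_eq_one_right h3, inv_eq_of_mul_eq_one_right A.a2]
      refine A.ne_one ?_
      rw [A.x1, show (4 : ℕ) = 2 * 2 from rfl, pow_mul, sq_comm A.c2 A.d2 (hcc ▸ A.ad), one_pow]
    have o5 : 5 ∣ Nat.card K := by
      haveI : Fact (Nat.Prime 5) := ⟨Nat.prime_five⟩
      exact orderOf_eq_prime A.ab hab1 ▸ hd (mul_mem (hg (by simp)) (hg (by simp)))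
    have o3 : 3 ∣ Nat.card K := by
      haveI : Fact (Nat.Prime 3) := ⟨Nat.prime_three⟩
      exact orderOf_eq_prime de dene ▸ hd (mul_mem (hg (by simp)) (hg (by simp)))
    have o8 : 8 ∣ Nat.card K := by
      haveI : Fact (Nat.Prime 2) := ⟨Nat.prime_two⟩
      have : orderOf (c * d) = 2 ^ 3 := orderOf_eq_prime_pow (n := 2)
        (fun e' => A.ne_one (A.x1.trans e')) hcd
      have h8 := hd (mul_mem (hg (u := c) (by simp)) (hg (u := d) (by simp)))
      rwa [this] at h8
    have hpos : 0 < Nat.card K := Nat.card_pos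
    omega

end CfsgLib.SuzIso
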