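import Cfsg.Agent.SuzSeven.Seven
import Cfsg.Agent.SuzOrder.OddPairs

/-!
Products of two involutions in the centraliser of the four group have order at most five.
-/

set_option autoImplicit false
set_option linter.style.haveILetI false
set_option maxRecDepth 100000

namespace CfsgLib.SuzIso

open CfsgLib CfsgLib.SuzInvol CfsgLib.SuzThree CfsgLib.SuzSeven Subgroup
open CfsgLib.SuzEleven (cX mem_cX)
open Cfsg.Agent.McLU43 (K9)

local notation "PSU4" => Cfsg.PSU 4 K9 3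

section Abstract

variable {K : Type*} [Group K] [Finite K] {z : K} {S E E' Z : Subgroup K} (C : Conf z S E E' Z)
variable (hK : Nat.card K = 20160) (hexp : ∀ x ∈ S, x * x * (x * x) = 1)
include C hexp

/-- Elements commuting with an involution have order dividing four. -/
theorem four_of_comm {w x : K} (hw : w * w = 1) (hw1 : w ≠ 1) (h : x * w = w * x) : x ^ 4 = 1 := by
  obtain ⟨g, hg⟩ := isConj_iff.1 (C.one w hw hw1)
  have hm : x ∈ centralizer ({w} : Set K) := mem_centralizer_singleton_iff.2 h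
  rw [C.cent_conj hg] at hm
  obtain ⟨s, hs, rfl⟩ := hm
  show (g * s * g⁻¹) ^ 4 = 1
  rw [conj_pow, show s ^ 4 = s * s * (s * s) by simp [pow_succ, mul_assoc], hexp s hs, mul_one, mul_inv_cancel]

include hK

/-- No involution inverts an element of order nine. -/
theorem not_nine {i x : K} (hi : i * i = 1) (hi1 : i ≠ 1) (hx : orderOf x = 9) (h : i * x * i⁻¹ = x⁻¹) : False := by
  classical
  obtain ⟨g, hg⟩ := isConj_iff.1 (C.one i hi hi1)
  obtain ⟨a, had⟩ : ∃ a, a = g⁻¹ * x * g := ⟨_, rfl⟩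
  have ha : orderOf a = 9 := by
    rw [had, show g⁻¹ * x * g = MulAut.conj g⁻¹ x by simp, MulEquiv.orderOf_eq, hx]
  have hza : z * a * z⁻¹ = a⁻¹ := by
    have e : z = g⁻¹ * i * g := by rw [← hg]; group
    calc z * a * z⁻¹ = g⁻¹ * (i * x * i⁻¹) * g := by rw [had, e]; group
      _ = a⁻¹ := by rw [h, had]; group
  have hz2 := C.zz
  have hzS := C.zS
  have ha9 : a ^ 9 = 1 := ha ▸ pow_orderOf_eq_one a
  have hzpow : ∀ k : ℕ, z * a ^ k * z⁻¹ = (a ^ k)⁻¹ := fun k => by rw [← conj_pow, hza, inv_pow]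
  -- the number of involutions with odd product
  have hinv : Nat.card {x : K // x * x = 1 ∧ x ≠ 1} = 315 := by
    have := C.class_card
    rw [hK] at this
    omega
  have h193 : Nat.card {x : K // (x * x = 1 ∧ x ≠ 1) ∧ Odd (orderOf (z * x))} = 193 := by
    let p : {x : K // x * x = 1 ∧ x ≠ 1} → Prop := fun x => Odd (orderOf (z * x.1))
    have h2 := Nat.card_congr (Equiv.sumCompl p)
    rw [Nat.card_sum, hinv, Nat.card_congr (Equiv.subtypeSubtypeEquivSubtypeInter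
        (fun x : K => x * x = 1 ∧ x ≠ 1) fun x => Odd (orderOf (z * x))),
      Nat.card_congr ((Equiv.subtypeSubtypeEquivSubtypeInter
        (fun x : K => x * x = 1 ∧ x ≠ 1) fun x => ¬ Odd (orderOf (z * x))).trans
        (Equiv.subtypeEquivRight fun x => by rw [Nat.not_odd_iff_even, and_assoc])), C.card_even] at h2
    omega
  -- many of them
  have hmem : ∀ (s : S) (k : Fin 4),
      (((s : K) * (z * a ^ (k.val + 1)) * (s : K)⁻¹) * ((s : K) * (z * a ^ (k.val + 1)) * (s : K)⁻¹) = 1 ∧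
        (s : K) * (z * a ^ (k.val + 1)) * (s : K)⁻¹ ≠ 1) ∧
      Odd (orderOf (z * ((s : K) * (z * a ^ (k.val + 1)) * (s : K)⁻¹))) := by
    intro s k
    have hzs : (s : K) * z = z * s := mem_centralizer_singleton_iff.1 (C.cent.symm ▸ s.2)
    have hzi : z⁻¹ = z := inv_eq_of_mul_eq_one_right hz2
    have e : z * ((s : K) * (z * a ^ (k.val + 1)) * (s : K)⁻¹) = (s : K) * a ^ (k.val + 1) * (s : K)⁻¹ := by
      calc z * ((s : K) * (z * a ^ (k.val + 1)) * (s : K)⁻¹) = z * (s : K) * z * a ^ (k.val + 1) * (s : K)⁻¹ := by group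
        _ = (s : K) * (z * z) * a ^ (k.val + 1) * (s : K)⁻¹ := by rw [← hzs]; group
        _ = _ := by rw [hz2, mul_one]
    refine ⟨⟨?_, fun e' => ?_⟩, ?_⟩
    · have := hzpow (k.val + 1)
      rw [hzi] at this
      calc (s : K) * (z * a ^ (k.val + 1)) * (s : K)⁻¹ * ((s : K) * (z * a ^ (k.val + 1)) * (s : K)⁻¹)
          = (s : K) * (z * a ^ (k.val + 1) * z * a ^ (k.val + 1)) * (s : K)⁻¹ := by group
        _ = 1 := by rw [this, inv_mul_cancel, mul_one, mul_inv_cancel]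
    · rw [conj_eq_one_iff] at e'
      have hza' : z = (a ^ (k.val + 1))⁻¹ := eq_inv_of_mul_eq_one_left e'
      apply C.zne
      have h9 : z ^ 9 = 1 := by rw [hza', inv_pow, ← pow_mul, mul_comm, pow_mul, ha9, one_pow, inv_one]
      rw [show (9 : ℕ) = 2 * 4 + 1 from rfl, pow_succ, pow_mul, pow_two, hz2, one_pow, one_mul] at h9
      exact h9
    · rw [e, show (s : K) * a ^ (k.val + 1) * (s : K)⁻¹ = MulAut.conj (s : K) (a ^ (k.val + 1)) by simp,
        MulEquiv.orderOf_eq]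
      refine Odd.of_dvd_nat (n := 9) ⟨4, rfl⟩ ?_
      rw [orderOf_dvd_iff_pow_eq_one, ← pow_mul, mul_comm, pow_mul, ha9, one_pow]
  let F : S × Fin 4 → {x : K // (x * x = 1 ∧ x ≠ 1) ∧ Odd (orderOf (z * x))} :=
    fun p => ⟨(p.1 : K) * (z * a ^ (p.2.val + 1)) * (p.1 : K)⁻¹, hmem p.1 p.2⟩
  have hF : Function.Injective F := by
    rintro ⟨s, k⟩ ⟨s', k'⟩ e
    have e' : (s : K) * (z * a ^ (k.val + 1)) * (s : K)⁻¹ = (s' : K) * (z * a ^ (k'.val + 1)) * (s' : K)⁻¹ :=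
      congrArg Subtype.val e
    obtain ⟨u, hud⟩ : ∃ u, u = (s' : K)⁻¹ * s := ⟨_, rfl⟩
    have huS : u ∈ S := hud ▸ mul_mem (inv_mem s'.2) s.2
    have huz : u * z = z * u := mem_centralizer_singleton_iff.1 (C.cent.symm ▸ huS)
    have hu : u * a ^ (k.val + 1) * u⁻¹ = a ^ (k'.val + 1) := by
      have h1 : u * (z * a ^ (k.val + 1)) * u⁻¹ = z * a ^ (k'.val + 1) := by
        calc u * (z * a ^ (k.val + 1)) * u⁻¹ = (s' : K)⁻¹ * ((s : K) * (z * a ^ (k.val + 1)) * (s : K)⁻¹) * s' := by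
              rw [hud]; group
          _ = z * a ^ (k'.val + 1) := by rw [e']; group
      have h2 : u * (z * a ^ (k.val + 1)) * u⁻¹ = z * (u * a ^ (k.val + 1) * u⁻¹) := by
        rw [← mul_assoc, huz]; group
      exact mul_left_cancel (h2.symm.trans h1)
    -- the subgroup of order three is normalised
    obtain ⟨j, hj, hj'⟩ : ∃ j : ℕ, (j = 1 ∨ j = 2) ∧ u * a ^ 3 * u⁻¹ = a ^ (3 * j) := by
      have hgcd : ∀ m : Fin 4, m.val + 1 ≠ 3 → ∃ v : Fin 9, (m.val + 1) * v.val % 9 = 1 := by decide +kernel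
      have hpair : ∀ m n : Fin 4, m.val + 1 ≠ 3 → ∀ v : Fin 9, (m.val + 1) * v.val % 9 = 1 → n.val + 1 ≠ 3 →
          ∃ j : Fin 3, (j.val = 1 ∨ j.val = 2) ∧ 3 * ((n.val + 1) * v.val) % 9 = 3 * j.val := by decide +kernel
      have hord : orderOf (a ^ (k.val + 1)) = orderOf (a ^ (k'.val + 1)) := by
        rw [← hu, show u * a ^ (k.val + 1) * u⁻¹ = MulAut.conj u (a ^ (k.val + 1)) by simp, MulEquiv.orderOf_eq]
      rw [orderOf_pow, orderOf_pow, ha] at hord
      have h33 : k.val + 1 = 3 ↔ k'.val + 1 = 3 := by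
        revert hord
        exact (by decide +kernel : ∀ m n : Fin 4, 9 / Nat.gcd 9 (m.val + 1) = 9 / Nat.gcd 9 (n.val + 1) →
          (m.val + 1 = 3 ↔ n.val + 1 = 3)) k k'
      by_cases h3 : k.val + 1 = 3
      · refine ⟨1, Or.inl rfl, ?_⟩
        rw [h3, h33.1 h3] at hu
        exact hu
      · obtain ⟨v, hv⟩ := hgcd k h3
        obtain ⟨j, hj, hj'⟩ := hpair k k' h3 v hv (fun e => h3 (h33.2 e))
        refine ⟨j.val, hj, ?_⟩
        have h4 : u * a * u⁻¹ = a ^ ((k'.val + 1) * v.val) := by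
          rw [pow_mul, ← hu, conj_pow, ← pow_mul, pow_eq_pow_mod _ ha9, hv, pow_one]
        rw [← conj_pow, h4, ← pow_mul, pow_eq_pow_mod _ ha9, mul_comm, hj']
    have ha3 : a ^ 3 ≠ 1 := fun e => by
      have := Nat.le_of_dvd (by norm_num) (orderOf_dvd_of_pow_eq_one e)
      omega
    have hr : ∀ w ∈ S, w * a ^ 3 = a ^ 3 * w → w = 1 := by
      intro w hw hwa
      by_contra hw1
      have hr3 : (a ^ 3) ^ 3 = 1 := by rw [← pow_mul]; exact ha9
      obtain ⟨q, hq2, hq1, hqc⟩ : ∃ q, q * q = 1 ∧ q ≠ 1 ∧ a ^ 3 * q = q * a ^ 3 := by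
        by_cases hw2 : w * w = 1
        · exact ⟨w, hw2, hw1, hwa.symm⟩
        · exact ⟨w * w, hexp w hw, hw2, ((show Commute (a ^ 3) w from hwa.symm).mul_right hwa.symm).eq⟩
      have h4 := four_of_comm C hexp hq2 hq1 hqc
      rw [show (4 : ℕ) = 3 + 1 from rfl, pow_succ, hr3, one_mul] at h4
      exact ha3 h4
    have hu1 : u = 1 ∨ u = z := by
      rcases hj with rfl | rfl
      · exact Or.inl (hr u huS (mul_inv_eq_iff_eq_mul.1 (by simpa using hj')))
      · right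
        have h5 : z * u = 1 := hr _ (mul_mem hzS huS) (mul_inv_eq_iff_eq_mul.1 (by
          rw [show z * u * a ^ 3 * (z * u)⁻¹ = z * (u * a ^ 3 * u⁻¹) * z⁻¹ by group, hj', hzpow,
            inv_eq_iff_mul_eq_one, ← pow_add]
          exact ha9))
        rw [← inv_eq_of_mul_eq_one_right h5, inv_eq_of_mul_eq_one_right hz2]
    rcases hu1 with rfl | rfl
    · have hs : s = s' := Subtype.ext (inv_mul_eq_one.1 hud.symm).symm
      rw [one_mul, inv_one, mul_one] at hu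
      have := pow_inj_mod.1 hu
      rw [ha] at this
      obtain rfl : k = k' := Fin.ext (by omega)
      rw [hs]
    · exfalso
      rw [hzpow, inv_eq_iff_mul_eq_one, ← pow_add] at hu
      have := Nat.le_of_dvd (by omega) (orderOf_dvd_of_pow_eq_one hu)
      omega
  have hle := Nat.card_le_card_of_injective F hF
  rw [Nat.card_prod, Nat.card_fin, C.cardS, h193] at hle
  omega

/-- The order of a product of two involutions. -/
theorem prod_order (hcp : ∀ b x : K, (orderOf b = 7 ∨ orderOf b = 5) → x * b = b * x → x ∈ zpowers b)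
    (h7 : ∀ i x : K, orderOf x = 7 → i * i = 1 → i ≠ 1 → i * x * i⁻¹ ≠ x⁻¹)
    {i j : K} (hi : i * i = 1) (hj : j * j = 1) : ∃ m ∈ [1, 2, 3, 4, 5], (i * j) ^ m = 1 := by
  by_cases hi1 : i = 1
  · exact ⟨2, by simp, by rw [hi1, one_mul, pow_two, hj]⟩
  obtain ⟨x, hxd⟩ : ∃ x, x = i * j := ⟨_, rfl⟩
  rw [← hxd]
  have hinv : i * x * i⁻¹ = x⁻¹ := by
    rw [hxd, mul_inv_rev, inv_eq_of_mul_eq_one_right hi, inv_eq_of_mul_eq_one_right hj, ← mul_assoc, hi, one_mul]
  obtain ⟨n, hn⟩ : ∃ n, n = orderOf x := ⟨_, rfl⟩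
  have hxn : x ^ n = 1 := hn ▸ pow_orderOf_eq_one x
  have hnd : n ∣ 20160 := hn ▸ hK ▸ orderOf_dvd_natCard x
  have hn0 : 0 < n := hn ▸ orderOf_pos x
  rcases Nat.even_or_odd n with ⟨m, hm⟩ | hodd
  · have hw : x ^ m * x ^ m = 1 := by rw [← pow_add, ← hm, hxn]
    have hw1 : x ^ m ≠ 1 := pow_ne_one_of_lt_orderOf (by omega) (by omega)
    exact ⟨4, by simp, four_of_comm C hexp hw hw1 ((Commute.refl x).pow_right m).eq⟩
  · have hn2 : n ∣ 315 := by
      have h : n.Coprime 64 := (Nat.Coprime.pow_right 6 (Nat.coprime_two_right.2 hodd) : n.Coprime (2 ^ 6))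
      exact h.dvd_of_dvd_mul_left (show n ∣ 64 * 315 from hnd)
    have key : ∀ q : ℕ, (q = 5 ∨ q = 7) → q ∣ n → n = q := by
      rintro q hq ⟨r, hr⟩
      have hq' : orderOf (x ^ r) = q := by
        rw [orderOf_pow, ← hn, hr, Nat.gcd_mul_left_left,
          Nat.mul_div_cancel _ (Nat.pos_of_ne_zero fun e => by subst e; omega)]
      have hmem := hcp (x ^ r) x (by rw [hq']; tauto) ((Commute.refl x).pow_right r).eq
      have h1 := orderOf_dvd_natCard (⟨x, hmem⟩ : zpowers (x ^ r))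
      rw [Subgroup.orderOf_mk, Nat.card_zpowers, hq', ← hn] at h1
      exact Nat.dvd_antisymm h1 ⟨r, hr⟩
    by_cases h5 : 5 ∣ n
    · exact ⟨5, by simp, key 5 (Or.inl rfl) h5 ▸ hxn⟩
    by_cases h7' : 7 ∣ n
    · exact absurd hinv (h7 i x (hn ▸ key 7 (Or.inr rfl) h7') hi hi1)
    have hn9 : n = 1 ∨ n = 3 ∨ n = 9 := by
      have hle := Nat.le_of_dvd (by norm_num) hn2
      have kk : ∀ v : Fin 316, v.val ∣ 315 → ¬ 5 ∣ v.val → ¬ 7 ∣ v.val → v.val = 1 ∨ v.val = 3 ∨ v.val = 9 := by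
        decide +kernel
      exact kk ⟨n, by omega⟩ hn2 h5 h7'
    rcases hn9 with e | e | e
    · exact ⟨1, by simp, e ▸ hxn⟩
    · exact ⟨3, by simp, e ▸ hxn⟩
    · exact (not_nine C hK hexp hi hi1 (hn ▸ e) hinv).elim

end Abstract

variable {G : Type*} [Group G] [Finite G] {z : G} {D : Dat z} {B : Base D} {y t : G}
variable (T : Three D y) (hS : Seed B y t) {π : cX y →* PSU4} (P : SuzEleven.Pi T π)
include T hS P

theorem _root_.CfsgLib.SuzSeven.Seed.prod_order {i j : G} (hi : i ∈ hS.H T) (hj : j ∈ hS.H T)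
    (hi2 : i * i = 1) (hj2 : j * j = 1) : ∃ m ∈ [1, 2, 3, 4, 5], (i * j) ^ m = 1 := by
  obtain ⟨b, hb⟩ := hS.exists_seven T P
  have hexp : ∀ x ∈ (hS.S T).subgroupOf (hS.H T), x * x * (x * x) = 1 := fun x hx => Subtype.ext (by
    obtain ⟨k, l, h⟩ := (hS.mem_S T).1 (mem_subgroupOf.1 hx)
    exact inV_sq h.sq.1)
  have h7 : ∀ i x : hS.H T, orderOf x = 7 → i * i = 1 → i ≠ 1 → i * x * i⁻¹ ≠ x⁻¹ := by
    intro i x hx hi hi1 e
    haveI : Fact (Nat.Prime 2) := ⟨Nat.prime_two⟩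
    obtain ⟨h, hh⟩ := hb.conj_into T hS hx
    obtain ⟨w, hwd⟩ : ∃ w, w = h * i * h⁻¹ := ⟨_, rfl⟩
    have hgen : zpowers (h * x * h⁻¹) = zpowers b := by
      refine eq_of_le_of_card_ge (zpowers_le.2 hh) ?_
      rw [Nat.card_zpowers, Nat.card_zpowers, hb.ord, show h * x * h⁻¹ = MulAut.conj h x by simp,
        MulEquiv.orderOf_eq, hx]
    have hwN : w ∈ normalizer ((zpowers b : Subgroup (hS.H T)) : Set (hS.H T)) := by
      rw [← hgen, mem_normalizer_iff_map_conj_eq, MonoidHom.map_zpowers]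
      show zpowers (w * (h * x * h⁻¹) * w⁻¹) = _
      rw [show w * (h * x * h⁻¹) * w⁻¹ = h * (i * x * i⁻¹) * h⁻¹ by rw [hwd]; group, e,
        show h * x⁻¹ * h⁻¹ = (h * x * h⁻¹)⁻¹ by group, zpowers_inv]
    have h2 : orderOf w = 2 := by
      rw [hwd, show h * i * h⁻¹ = MulAut.conj h i by simp, MulEquiv.orderOf_eq]
      exact orderOf_eq_prime (by rw [pow_two, hi]) hi1
    have := orderOf_dvd_natCard (⟨w, hwN⟩ : normalizer ((zpowers b : Subgroup (hS.H T)) : Set (hS.H T)))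
    rw [Subgroup.orderOf_mk, h2, hb.ncard] at this
    norm_num at this
  obtain ⟨m, hm, e⟩ := SuzIso.prod_order (hS.conf T P) hb.card_H hexp (fun b x => hS.cent_prime T P) h7
    (i := ⟨i, hi⟩) (j := ⟨j, hj⟩) (Subtype.ext hi2) (Subtype.ext hj2)
  exact ⟨m, hm, congrArg Subtype.val e⟩

theorem _root_.CfsgLib.SuzSeven.Seed.comm_z_of_Zv {c x : G} (hc : c ∈ Zv B) (hc1 : c ≠ 1) (hx : x ∈ hS.H T)
    (h : x * c = c * x) : x * z = z * x := by
  have C := hS.conf T P
  have hcH : c ∈ hS.H T := hS.S_le_H T ((hS.mem_S T).2 ⟨0, 0, by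
    simpa [kF] using mem_Zv.1 hc⟩)
  have hm : (⟨x, hx⟩ : hS.H T) ∈ centralizer ({(⟨c, hcH⟩ : hS.H T)} : Set (hS.H T)) :=
    mem_centralizer_singleton_iff.2 (Subtype.ext h)
  rw [C.cent_Z (mem_subgroupOf.2 hc) (fun e => hc1 (congrArg Subtype.val e)), ← C.cent,
    mem_centralizer_singleton_iff] at hm
  exact congrArg Subtype.val hm

end CfsgLib.SuzIso
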