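import Cfsg.Agent.SuzIso.Five
import Cfsg.Agent.SuzIso.Invol
import Cfsg.Agent.SuzIso.Amal
import Cfsg.Agent.SuzUniq.Present
import Cfsg.Agent.SuzOrder.Main
import Cfsg.Agent.SuzIso.Cases

/-!
The seven generators in a group of Suzuki-sporadic type.
-/

set_option autoImplicit false
set_option linter.style.haveILetI false
set_option maxRecDepth 100000
set_option synthInstance.maxSize 4096
set_option synthInstance.maxHeartbeats 200000

namespace CfsgLib.SuzIso


open CfsgLib CfsgLib.Quad CfsgLib.SuzInvol CfsgLib.SuzThree CfsgLib.SuzSeven CfsgLib.SuzOrder Subgroup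
open CfsgLib.SuzEleven (cX mem_cX)
open Cfsg.Agent.McLU43 (K9)

local notation "PSU4" => Cfsg.PSU 4 K9 3

variable {G : Type*} [Group G] [Finite G] {z : G} {D : Dat z} {B : Base D} {y t : G}
variable (T : Three D y) (hS : Seed B y t) {π : cX y →* PSU4} (P : SuzEleven.Pi T π)
include T hS P

/-- A group of Suzuki-sporadic type is isomorphic to the presented group. -/
theorem iso_suz : Cfsg.Spor.IsoSuz G := by
  have hC := SuzOrder.card_centralizer D
  have hG := SuzOrder.card_group T hS P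
  obtain ⟨p, σ, f, g, W⟩ := exists_gens T hS
  obtain ⟨b, hb2, hbH, hbp, hbt, hby, hbz, hzb5, hbf, hbg, hbfg⟩ := W.exists_b T hS P hC hG
  have hz2 : z * z = 1 := D.pre.gen.sq
  have hz1 : z ≠ 1 := D.pre.gen.ne_one
  have htz := hS.tz T
  have ht2 := hS.t_sq T
  have hyz : y * z = z * y := mem_centralizer_singleton_iff.1 T.mem
  have hpz : p * z = z * p := mem_centralizer_singleton_iff.1 W.pC
  have cm : ∀ {u v : G}, u * v = v * u → Commute u v := fun h => h
  obtain ⟨hd2, hdy, hdt⟩ := W.clean (centralizer {b}) (fun h => hbz (mem_centralizer_singleton_iff.1 h))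
    (mem_centralizer_singleton_iff.2 hby.symm) (mem_centralizer_singleton_iff.2 hbt.symm)
    (mem_centralizer_singleton_iff.2 hbp.symm)
  -- commutations of the product
  obtain ⟨d, hd⟩ : ∃ d, d = y * t * p := ⟨_, rfl⟩
  rw [← hd] at hd2 hdy hdt
  have hdinv : d⁻¹ = d := inv_eq_of_mul_eq_one_right hd2
  have hdz : d * z = z * d := hd ▸ (((cm hyz).mul_left (cm htz)).mul_left (cm hpz)).eq
  have hdb : d * b = b * d :=
    hd ▸ (((cm hby.symm).mul_left (cm hbt.symm)).mul_left (cm hbp.symm)).eq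
  have hdf : d * f = f * d := hd ▸ (((cm W.yf).mul_left (cm W.tf)).mul_left (cm W.pf)).eq
  have hdg : d * g = g * d := hd ▸ (((cm W.yg).mul_left (cm W.tg)).mul_left (cm W.pg)).eq
  -- membership
  have hfg : ∀ {u : G}, y * u = u * y → t * u = u * t → u ∈ hS.H T := fun {u} hyu htu =>
    (hS.mem_H T).2 ⟨hyu.symm, (hS.mem_cent T).2 ⟨htu.symm,
      (((cm hyu).mul_left (cm htu)).mul_left (cm hyu).inv_left).eq.symm⟩⟩
  have hfH := hfg W.yf W.tf
  have hgH := hfg W.yg W.tg
  have hzH := hS.z_H T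
  have hzv : ∀ {c : G}, c ∈ Zv B → c ∈ hS.H T := fun {c} hc => hS.S_le_H T ((hS.mem_S T).2 ⟨0, 0, by
    simpa [kF] using mem_Zv.1 hc⟩)
  have hsV : B.s ∈ Zv B := (B.inV_of (Or.inr (Or.inr (Or.inl rfl)))).1
  have hzsV : z * B.s ∈ Zv B := mul_mem z_Zv hsV
  have hs1 : B.s ≠ 1 := fun e => base_facts.2.2.2 (by rw [← B.πs, e, π_one])
  have hzs1 : z * B.s ≠ 1 := fun e => base_facts.2.2.2 (by
    rw [← B.πs, ← inv_eq_of_mul_eq_one_right e, inv_eq_of_mul_eq_one_right hz2, π_z])
  have hsy : y * B.s = B.s * y := Three.y_s T B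
  have hts : t * B.s = B.s * t :=
    mem_centralizer_iff.1 ((hS.mem_H T).1 (hzv hsV)).2 t (hS.t_mem T)
  have hzs : z * B.s = B.s * z := (D.pre.gen.comm_z _ B.sQ).eq.symm
  have hzf : z * f = f * z := (D.pre.gen.comm_z _ W.fQ).eq.symm
  have hzg : z * g = g * z := (D.pre.gen.comm_z _ W.gQ).eq.symm
  have hs2 : B.s * B.s = 1 := inV_sq (B := B) hsV
  -- the fourth power
  have hcd : ∀ {c : G}, c = B.s ∨ c = z * B.s → (c * d) ^ 4 = z := by
    intro c hc
    have e2 : ∀ u : G, (u * d) ^ 4 = u * (d * u * d⁻¹) * (u * (d * u * d⁻¹)) := fun u => by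
      rw [hdinv, pow_succ, pow_succ, pow_succ, pow_one]; group
    have h := W.dsc
    rw [← hd] at h
    rcases hc with rfl | rfl
    · rw [e2, h]
    · have e3 : z * B.s * (d * (z * B.s) * d⁻¹) = B.s * (d * B.s * d⁻¹) := by
        calc z * B.s * (d * (z * B.s) * d⁻¹) = z * B.s * (d * z) * B.s * d⁻¹ := by group
          _ = z * B.s * z * (d * B.s * d⁻¹) := by rw [hdz]; group
          _ = _ := by rw [mul_assoc z, ← hzs, ← mul_assoc z, hz2, one_mul]
      rw [e2, e3, h]
  -- the order of the product with the central involution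
  have hzb1 : z * b ≠ 1 := fun e => hbz (by rw [e, ← inv_eq_of_mul_eq_one_right e, inv_mul_cancel])
  have ho : orderOf (⟨z * b, mul_mem hzH hbH⟩ : hS.H T) = 5 :=
    haveI : Fact (Nat.Prime 5) := ⟨Nat.prime_five⟩
    orderOf_eq_prime (Subtype.ext hzb5) (fun e => hzb1 (congrArg Subtype.val e))
  have h5 : ∀ {c : G}, c ∈ Zv B → c ≠ 1 → c * (z * b) ≠ z * b * c := by
    intro c hc hc1 e
    obtain ⟨n, hn⟩ := mem_zpowers_iff.1 (hS.cent_prime T P (Or.inr ho) (x := ⟨c, hzv hc⟩) (Subtype.ext e))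
    have hc5 : c ^ 5 = 1 := by
      rw [show c = (z * b) ^ n from (congrArg Subtype.val hn).symm.trans (by simp), ← zpow_natCast, ← zpow_mul,
        mul_comm, zpow_mul, zpow_natCast, hzb5, one_zpow]
    rw [show (5 : ℕ) = 2 + 2 + 1 from rfl, pow_succ, pow_add, pow_two, inV_sq (B := B) hc, one_mul, one_mul] at hc5
    exact hc1 hc5
  have A : Amal z b B.s d f g :=
    { a2 := hz2, b2 := hb2, c2 := hs2, d2 := hd2, f2 := W.f2, g2 := W.g2, ab := hzb5, bf := hbf, bg := hbg
      fg := by rw [show (4 : ℕ) = 2 * 2 from rfl, pow_mul, pow_two (f * g), W.fg, pow_two, hz2]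
      bfg := hbfg, ac := hzs, ad := hdz.symm, af := hzf, ag := hzg, bd := hdb.symm, cf := W.sf, cg := W.sg
      df := hdf, dg := hdg, x1 := (hcd (Or.inl rfl)).symm, x2 := by rw [pow_two, W.fg]
      ne_one := hz1 }
  obtain ⟨c, hc, A', hbc, habcf⟩ := exists_c A (hS.H T) hzH hbH (hzv hsV) hfH hgH
    (fun i hi j hj => hS.prod_order T P hi hj) (fun x hx e => hS.comm_z_of_Zv T P hsV hs1 hx e)
    (fun x hx e => hS.comm_z_of_Zv T P hzsV hzs1 hx e) (h5 hsV hs1) (h5 hzsV hzs1)
  have hct : c * t = t * c := by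
    rcases hc with rfl | rfl
    exacts [hts.symm, ((cm htz).mul_right (cm hts)).eq.symm]
  have hcy : c * y = y * c := by
    rcases hc with rfl | rfl
    exacts [hsy.symm, ((cm hyz).mul_right (cm hsy)).eq.symm]
  have hdne : d * t ≠ 1 := by
    intro e
    have hdt' : d = t := by rw [← mul_one d, ← ht2, ← mul_assoc, e, one_mul]
    have hy1 : t * y * t = y⁻¹ := by
      have h := hdy
      rw [hdt', inv_eq_of_mul_eq_one_right ht2] at h
      exact h
    have h2 : y * t * (y * t) = 1 := by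
      calc y * t * (y * t) = y * (t * y * t) := by group
        _ = 1 := by rw [hy1, mul_inv_cancel]
    have h3 := yt_cube T hS
    rw [pow_succ, pow_two, h2, one_mul] at h3
    have hyt : y = t := (mul_eq_one_iff_eq_inv.1 h3).trans (inv_eq_of_mul_eq_one_right ht2)
    have h4 := T.three
    rw [hyt, pow_succ, pow_two, ht2, one_mul] at h4
    exact hS.t_ne T h4
  obtain ⟨hka, hkb, hk1⟩ := k_facts A' hbc hdt hdne ht2 htz.symm hbt hct
  -- the twisting element lies in the cyclic group of order three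
  obtain ⟨k, hk⟩ : ∃ k, k = (b * c * d * c * d) ^ 5 := ⟨_, rfl⟩
  rw [← hk] at hka hkb hk1
  have hdcd : d * c * d * y = y * (d * c * d) := by
    have h1 : d * y = y⁻¹ * d := mul_inv_eq_iff_eq_mul.1 hdy
    have h2 : d * y⁻¹ = y * d := by
      calc d * y⁻¹ = d * y⁻¹ * (d⁻¹ * d) := by group
        _ = (d * y * d⁻¹)⁻¹ * d := by group
        _ = y * d := by rw [hdy, inv_inv]
    calc d * c * d * y = d * c * (d * y) := by group
      _ = d * (c * y⁻¹) * d := by rw [h1]; group
      _ = d * (y⁻¹ * c) * d := by rw [(cm hcy).inv_right.eq]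
      _ = d * y⁻¹ * c * d := by group
      _ = y * (d * c * d) := by rw [h2]; group
  have hky : k * y = y * k := by
    have h0 : Commute (b * c * (d * c * d)) y := ((cm hby).mul_left (cm hcy)).mul_left (cm hdcd)
    have h1 : b * c * d * c * d = b * c * (d * c * d) := by group
    rw [hk, h1]
    exact (h0.pow_left 5).eq
  let kx : cX y := ⟨k, mem_cX.2 hky⟩
  let zx : cX y := ⟨z, hS.H_le T hzH⟩
  let bx : cX y := ⟨b, hS.H_le T hbH⟩
  have hzbx : zx * bx = ⟨z * b, hS.H_le T (mul_mem hzH hbH)⟩ := rfl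
  have hop : orderOf (π (zx * bx)) = 5 := by
    rw [hzbx]; exact (hS.orderOf_π T P ⟨z * b, mul_mem hzH hbH⟩).trans ho
  have hkz' : π kx * π zx = π zx * π kx := by rw [← map_mul, ← map_mul, show kx * zx = zx * kx from Subtype.ext hka]
  have hkb' : π kx * π bx = π bx * π kx := by rw [← map_mul, ← map_mul, show kx * bx = bx * kx from Subtype.ext hkb]
  obtain ⟨n, hn⟩ := mem_zpowers_iff.1 (centralizer_prime (Or.inr hop) (x := π kx) (by
    rw [map_mul]; exact ((show Commute (π kx) (π zx) from hkz').mul_right (show Commute (π kx) (π bx) from hkb')).eq))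
  have hπk : π kx = 1 := by
    obtain ⟨u, hu⟩ : ∃ u, u = π (zx * bx) := ⟨_, rfl⟩
    obtain ⟨w, hw⟩ : ∃ w, w = π zx := ⟨_, rfl⟩
    have hinvu : w * u * w⁻¹ = u⁻¹ := by
      rw [hw, hu, ← map_inv, ← map_inv, ← map_mul, ← map_mul]
      congr 1
      refine Subtype.ext ?_
      show z * (z * b) * z⁻¹ = (z * b)⁻¹
      rw [mul_inv_rev, inv_eq_of_mul_eq_one_right hb2, ← mul_assoc, hz2, one_mul]
    have h1 : w * u ^ n * w⁻¹ = u ^ n := by
      rw [hu, hn, hw, ← hkz', mul_inv_cancel_right]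
    rw [← conj_zpow, hinvu, inv_zpow] at h1
    have h2 : π kx * π kx = 1 := by rw [← hn, ← hu]; exact mul_eq_one_iff_eq_inv.2 h1.symm
    have h5' : π kx ^ 5 = 1 := by
      rw [← hn, ← zpow_natCast, ← zpow_mul, mul_comm, zpow_mul, zpow_natCast, ← hop, pow_orderOf_eq_one, one_zpow]
    rw [show (5 : ℕ) = 2 + 2 + 1 from rfl, pow_succ, pow_add, pow_two, h2, one_mul, one_mul] at h5'
    exact h5'
  have hx5 : (k * t) ^ 3 = 1 := by
    obtain ⟨e, he⟩ := SuzThree.mem_zpowers_three T ((P.ker kx).1 hπk)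
    have he' : k = y ^ e.val := he
    have h := yt_cube T hS
    fin_cases e
    · exact absurd (by simpa using he') hk1
    · rw [he']; simpa using h
    · rw [he']
      show (y ^ 2 * t) ^ 3 = 1
      have e1 : y ^ 2 * t = (t * (y * t) * t⁻¹)⁻¹ := by
        rw [show y ^ 2 = y⁻¹ from (inv_eq_of_mul_eq_one_right (by rw [← pow_succ', T.three])).symm]
        calc y⁻¹ * t = y⁻¹ * t⁻¹ := by rw [inv_eq_of_mul_eq_one_right ht2]
          _ = _ := by group
      rw [e1, inv_pow, conj_pow, h]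
      group
  refine CfsgLib.SuzUniq.iso_of_rels hG (a := z) (b := b) (c := c) (d := d) (e := t) (f := f) (g := g) ?_ hz1
  have hct4 := A'.x1
  exact {
    a2 := hz2, b2 := hb2, c2 := A'.c2, d2 := hd2, e2 := ht2, f2 := W.f2, g2 := W.g2, ab := hzb5, bc := hbc
    cd := by rw [show (8 : ℕ) = 4 * 2 from rfl, pow_mul, ← hct4, pow_two, hz2]
    de := hdt, bf := hbf, fg := A.fg, gb := SuzUniq.pow_swap hb2 hbg
    ac := A'.ac, ad := hdz.symm, ae := htz.symm, af := hzf, ag := hzg, bd := hdb.symm, be := hbt, ce := hct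
    cf := A'.cf, cg := A'.cg, df := hdf, dg := hdg, ef := W.tf, eg := W.tg
    x1 := hct4, x2 := A.x2, x3 := habcf, x4 := hbfg, x5 := hk ▸ hx5 }

end CfsgLib.SuzIso
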