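import Cfsg.Agent.SuzIso.A6List

/-!
The third generator of the alternating group of degree six over a dihedral subgroup of order eight, and
the elements fixed by an automorphism centralising that subgroup.
-/

set_option autoImplicit false

namespace CfsgLib.SuzIso

open Equiv

/-- The central involution of the dihedral group of two involutions. -/
def zW {M : Type*} [Group M] (F G : M) : M := F * G * (F * G)

/-- The word normalising the first four group. -/
def wW {M : Type*} [Group M] (F G B : M) : M := B * F * zW F G * B * zW F G * B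

theorem map_zW {M N : Type*} [Group M] [Group N] (φ : M →* N) (F G : M) : φ (zW F G) = zW (φ F) (φ G) := by
  simp [zW, map_mul]

theorem map_wW {M N : Type*} [Group M] [Group N] (φ : M →* N) (F G B : M) :
    φ (wW F G B) = wW (φ F) (φ G) (φ B) := by
  simp [wW, zW, map_mul]

theorem zW_comm {M : Type*} [Group M] {F G : M} (hF : F * F = 1) (hG : G * G = 1)
    (hZ : zW F G * zW F G = 1) : zW G F = zW F G := by
  have e : zW G F = (zW F G)⁻¹ := by
    simp only [zW, mul_inv_rev, inv_eq_of_mul_eq_one_right hF, inv_eq_of_mul_eq_one_right hG]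
  rw [e, inv_eq_of_mul_eq_one_right hZ]

/-- Two involutions generating a dihedral group of order eight. -/
structure Dih {M : Type*} [Group M] (F G : M) : Prop where
  sqF : F * F = 1
  sqG : G * G = 1
  zne : zW F G ≠ 1
  sqZ : zW F G * zW F G = 1

/-- The relations of the third generator. -/
structure Rel {M : Type*} [Group M] (F G B : M) : Prop where
  sq : B * B = 1
  five : (zW F G * B) ^ 5 = 1
  threeF : (B * F) ^ 3 = 1
  threeG : (B * G) ^ 3 = 1
  five' : (B * F * G) ^ 5 = 1
  nc : zW F G * B ≠ B * zW F G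

theorem Rel.ne_one {M : Type*} [Group M] {F G B : M} (h : Rel F G B) : B ≠ 1 := fun e => h.nc (by
  rw [e, mul_one, one_mul])

theorem Dih.symm {M : Type*} [Group M] {F G : M} (h : Dih F G) : Dih G F := by
  have e := zW_comm h.sqF h.sqG h.sqZ
  exact ⟨h.sqG, h.sqF, e ▸ h.zne, e ▸ h.sqZ⟩

theorem Rel.symm {M : Type*} [Group M] {F G B : M} (d : Dih F G) (h : Rel F G B) : Rel G F B := by
  have e := zW_comm d.sqF d.sqG d.sqZ
  refine ⟨h.sq, e ▸ h.five, h.threeG, h.threeF, ?_, e ▸ h.nc⟩
  have e1 : B * G * F = B * (B * F * G)⁻¹ * B⁻¹ := by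
    calc B * G * F = B * (G * F) * 1 := by group
      _ = B * (G⁻¹ * F⁻¹) * (B⁻¹ * B⁻¹) := by
        rw [inv_eq_of_mul_eq_one_right d.sqG, inv_eq_of_mul_eq_one_right d.sqF,
          inv_eq_of_mul_eq_one_right h.sq, h.sq]
      _ = B * (B * F * G)⁻¹ * B⁻¹ := by group
  rw [e1, conj_pow, inv_pow, h.five', inv_one, mul_one, mul_inv_cancel]

section Map

variable {M N : Type*} [Group M] [Group N] (κ : M ≃* N) {F G B : M}

theorem Dih.map (h : Dih F G) : Dih (κ F) (κ G) := by
  have e : zW (κ F) (κ G) = κ (zW F G) := (map_zW κ.toMonoidHom F G).symm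
  refine ⟨by rw [← map_mul, h.sqF, map_one], by rw [← map_mul, h.sqG, map_one], ?_, ?_⟩
  · rw [e]; exact fun e' => h.zne (κ.injective (e'.trans (map_one κ).symm))
  · rw [e, ← map_mul, h.sqZ, map_one]

theorem Rel.map (h : Rel F G B) : Rel (κ F) (κ G) (κ B) := by
  have e : zW (κ F) (κ G) = κ (zW F G) := (map_zW κ.toMonoidHom F G).symm
  refine ⟨by rw [← map_mul, h.sq, map_one], by rw [e, ← map_mul, ← map_pow, h.five, map_one],
    by rw [← map_mul, ← map_pow, h.threeF, map_one], by rw [← map_mul, ← map_pow, h.threeG, map_one],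
    by rw [← map_mul, ← map_mul, ← map_pow, h.five', map_one], ?_⟩
  rw [e, ← map_mul, ← map_mul]
  exact fun e' => h.nc (κ.injective e')

end Map

/-- The alternating group of degree six. -/
abbrev A6 : Type := ↥(alternatingGroup (Fin 6))

/-- The list of an element. -/
def encA (x : A6) : List ℕ := encP x.1

theorem encA_mul (x y : A6) : encA (x * y) = cP (encA x) (encA y) := encP_mul _ _

theorem encA_one : encA 1 = idP := encP_one

theorem encA_inj {x y : A6} (h : encA x = encA y) : x = y := Subtype.ext (encP_inj h)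

theorem encA_eq_id {x : A6} : encA x = idP ↔ x = 1 :=
  ⟨fun h => encA_inj (h.trans encA_one.symm), fun h => h ▸ encA_one⟩

theorem encA_inv_mem {x : A6} (h : x * x = 1) (h1 : x ≠ 1) : encA x ∈ invL :=
  (encP_mem x.1 (Perm.mem_alternatingGroup.1 x.2) fun e => h1 (Subtype.ext e)).1 (congrArg Subtype.val h)

theorem encA_tri_mem {x : A6} (h : x * x * x = 1) (h1 : x ≠ 1) : encA x ∈ triL :=
  (encP_mem x.1 (Perm.mem_alternatingGroup.1 x.2) fun e => h1 (Subtype.ext e)).2 (congrArg Subtype.val h)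

theorem encA_zW (F G : A6) : encA (zW F G) = zP (encA F) (encA G) := by simp [zW, zP, encA_mul]

theorem encA_wW (F G B : A6) : encA (wW F G B) = wP (encA F) (encA G) (encA B) := by
  simp [wW, wP, encA_mul, encA_zW]

theorem encA_p3 (x : A6) : p3 (encA x) = encA (x ^ 3) := by
  rw [pow_three']
  simp [p3, encA_mul]

theorem encA_p5 (x : A6) : p5 (encA x) = encA (x ^ 5) := by
  have e : x ^ 5 = x * x * x * x * x := by simp [pow_succ, mul_assoc]
  rw [e]
  simp [p5, p3, encA_mul]

theorem exists_std {F : A6} (h : F * F = 1) (h1 : F ≠ 1) : ∃ κ : A6 ≃* A6, encA (κ F) = F0 := by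
  obtain ⟨t, ht, e⟩ := conj_list.1 _ (encA_inv_mem h h1)
  let τ : A6 := ⟨t, Perm.mem_alternatingGroup.2 (conj_list.2 t ht)⟩
  refine ⟨MulAut.conj τ, ?_⟩
  let F' : A6 := ⟨swap 0 1 * swap 2 3, Perm.mem_alternatingGroup.2 (by decide)⟩
  have hF' : encA F' = F0 := by decide +kernel
  have hs : τ * F = F' * τ := encA_inj (by rw [encA_mul, encA_mul, hF']; exact e)
  rw [MulAut.conj_apply, hs, mul_inv_cancel_right, hF']

theorem okP_of {F G : A6} (d : Dih F G) : okP (encA F) (encA G) = true := by
  rw [okP, Bool.and_eq_true, bne_iff_ne, beq_iff_eq, ← encA_zW]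
  exact ⟨fun e => d.zne (encA_eq_id.1 e), by rw [← encA_mul, d.sqZ, encA_one]⟩

theorem relP_of {F G B : A6} (h : Rel F G B) : relP (encA F) (encA G) (encA B) = true := by
  simp only [relP, Bool.and_eq_true, beq_iff_eq, bne_iff_ne, ← encA_zW, ← encA_mul, encA_p3, encA_p5]
  exact ⟨⟨⟨⟨by rw [h.five, encA_one], by rw [h.threeF, encA_one]⟩, by rw [h.threeG, encA_one]⟩,
    by rw [h.five', encA_one]⟩, fun e => h.nc (encA_inj e)⟩

theorem mem_inv_F {F G : A6} (d : Dih F G) : F ≠ 1 ∧ G ≠ 1 := by
  constructor <;> intro e <;> apply d.zne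
  · simp [zW, e, d.sqG]
  · simp [zW, e, d.sqF]

/-- The third generator exists. -/
theorem exists_rel {F G : A6} (d : Dih F G) : ∃ B, Rel F G B := by
  obtain ⟨κ, hκ⟩ := exists_std d.sqF (mem_inv_F d).1
  have d' := d.map κ
  have h := exists_list
  simp only [List.all_eq_true, List.any_eq_true, Bool.or_eq_true, Bool.not_eq_true', List.mem_singleton,
    forall_eq] at h
  rcases h _ (encA_inv_mem d'.sqG (mem_inv_F d').2) with h' | ⟨Bl, hBl, hr⟩
  · rw [← hκ, okP_of d'] at h'; exact absurd h' (by simp)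
  · have hinv : ∀ x ∈ invL, ∃ t : Perm (Fin 6), Perm.sign t = 1 ∧ encP t = x := by decide +kernel
    obtain ⟨t, ht, rfl⟩ := hinv Bl hBl
    let B : A6 := ⟨t, Perm.mem_alternatingGroup.2 ht⟩
    have hB2 : ∀ x ∈ invL, cP x x = idP := by decide +kernel
    have hr' : relP (encA (κ F)) (encA (κ G)) (encA B) = true := by rw [hκ]; exact hr
    simp only [relP, Bool.and_eq_true, beq_iff_eq, bne_iff_ne, ← encA_zW, ← encA_mul, encA_p3, encA_p5,
      encA_eq_id] at hr'
    obtain ⟨⟨⟨⟨r1, r2⟩, r3⟩, r4⟩, r5⟩ := hr'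
    have hR : Rel (κ F) (κ G) B := ⟨encA_eq_id.1 (by rw [encA_mul]; exact hB2 _ hBl), r1, r2, r3, r4,
      fun e => r5 (congrArg encA e)⟩
    exact ⟨κ.symm B, by simpa using hR.map κ.symm⟩

/-- The word normalises the first four group. -/
theorem Rel.word {F G B : A6} (d : Dih F G) (h : Rel F G B) :
    wW F G B ^ 3 = 1 ∧ wW F G B ≠ 1 ∧ ∀ x ∈ [zW F G, F],
      ∃ v ∈ [zW F G, F, zW F G * F], wW F G B * x = v * wW F G B := by
  obtain ⟨κ, hκ⟩ := exists_std d.sqF (mem_inv_F d).1
  have d' := d.map κ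
  have h' := h.map κ
  have hl := norm_list
  simp only [List.all_eq_true, List.any_eq_true, Bool.or_eq_true, Bool.not_eq_true', List.mem_singleton,
    forall_eq] at hl
  rcases hl _ (encA_inv_mem d'.sqG (mem_inv_F d').2) with e | e
  · rw [← hκ, okP_of d'] at e; exact absurd e (by simp)
  rcases e _ (encA_inv_mem h'.sq h'.ne_one) with e | e
  · rw [← hκ, relP_of h'] at e; exact absurd e (by simp)
  have hw : wW (κ F) (κ G) (κ B) = κ (wW F G B) := (map_wW κ.toMonoidHom F G B).symm
  have hz : zW (κ F) (κ G) = κ (zW F G) := (map_zW κ.toMonoidHom F G).symm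
  simp only [Bool.and_eq_true, beq_iff_eq, bne_iff_ne, ← hκ, ← encA_wW, hw, encA_p3, normP, List.all_eq_true,
    List.any_eq_true, ← encA_zW, ← encA_mul, hz] at e
  obtain ⟨⟨e1, e2⟩, e3⟩ := e
  refine ⟨κ.injective (by rw [map_pow, map_one]; exact encA_eq_id.1 e1), fun e' => e2 ?_, ?_⟩
  · rw [e', map_one, encA_one]
  · intro x hx
    obtain ⟨v, hv, hxv⟩ := e3 (encA (κ x)) (by
      simp only [List.mem_cons, List.not_mem_nil, or_false] at hx ⊢
      rcases hx with rfl | rfl <;> simp)
    simp only [List.mem_cons, List.not_mem_nil, or_false] at hv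
    rcases hv with rfl | rfl | rfl
    · exact ⟨zW F G, by simp, κ.injective (encA_inj (by simpa [encA_mul] using hxv))⟩
    · exact ⟨F, by simp, κ.injective (encA_inj (by simpa [encA_mul] using hxv))⟩
    · exact ⟨zW F G * F, by simp, κ.injective (encA_inj (by simpa [encA_mul] using hxv))⟩

/-- An automorphism fixing both words alike moves the third generator only by the central involution. -/
theorem Rel.unique {F G B B' : A6} (d : Dih F G) (h : Rel F G B) (h' : Rel F G B')
    (hw : wW F G B' = wW F G B ↔ wW G F B' = wW G F B) : B' = B ∨ B' = zW F G * B * zW F G := by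
  obtain ⟨κ, hκ⟩ := exists_std d.sqF (mem_inv_F d).1
  have d' := d.map κ
  have hk := h.map κ
  have hk' := h'.map κ
  have hl := unique_list
  simp only [List.all_eq_true, Bool.or_eq_true, Bool.not_eq_true', List.mem_singleton, forall_eq] at hl
  rcases hl _ (encA_inv_mem d'.sqG (mem_inv_F d').2) with e | e
  · rw [← hκ, okP_of d'] at e; exact absurd e (by simp)
  rcases e _ (encA_inv_mem hk.sq hk.ne_one) with e | e
  · rw [← hκ, relP_of hk] at e; exact absurd e (by simp)
  have key : ∀ a b : A6, (encA (κ a) == encA (κ b)) = decide (a = b) := by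
    intro a b
    by_cases hab : a = b
    · simp [hab]
    · rw [decide_eq_false hab, beq_eq_false_iff_ne]
      exact fun e => hab (κ.injective (encA_inj e))
  rcases e _ (encA_inv_mem hk'.sq hk'.ne_one) with (e | e) | e
  · rw [← hκ, relP_of hk'] at e; exact absurd e (by simp)
  · exfalso
    have w1 : ∀ b, wP F0 (encA (κ G)) (encA (κ b)) = encA (κ (wW F G b)) := fun b => by
      rw [← hκ, ← encA_wW]; exact congrArg encA (map_wW κ.toMonoidHom F G b).symm
    have w2 : ∀ b, wP (encA (κ G)) F0 (encA (κ b)) = encA (κ (wW G F b)) := fun b => by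
      rw [← hκ, ← encA_wW]; exact congrArg encA (map_wW κ.toMonoidHom G F b).symm
    rw [w1, w1, w2, w2, key, key, decide_eq_decide.2 hw, beq_self_eq_true] at e
    exact absurd e (by simp)
  · simp only [Bool.or_eq_true, beq_iff_eq, ← hκ, ← encA_zW, ← encA_mul] at e
    rcases e with e | e
    · exact Or.inl (κ.injective (encA_inj e))
    · refine Or.inr (κ.injective ?_)
      rw [encA_inj e, map_mul, map_mul, ← MulEquiv.coe_toMonoidHom, map_zW]

/-- Elements of order three normalising the first four group. -/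
theorem Rel.tri {F G B r : A6} (d : Dih F G) (h : Rel F G B) (hr : r ^ 3 = 1) (hr1 : r ≠ 1)
    (hn : ∀ x ∈ [zW F G, F], ∃ v ∈ [zW F G, F, zW F G * F], r * x = v * r) :
    ∃ w ∈ [1, zW F G, F, zW F G * F], ∃ u ∈ [wW F G B, wW F G B * wW F G B], r = w * u * w := by
  obtain ⟨κ, hκ⟩ := exists_std d.sqF (mem_inv_F d).1
  have d' := d.map κ
  have hk := h.map κ
  have hl := tri_list
  simp only [List.all_eq_true, List.any_eq_true, Bool.or_eq_true, Bool.not_eq_true', List.mem_singleton,
    forall_eq] at hl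
  rcases hl _ (encA_inv_mem d'.sqG (mem_inv_F d').2) with e | e
  · rw [← hκ, okP_of d'] at e; exact absurd e (by simp)
  rcases e _ (encA_inv_mem hk.sq hk.ne_one) with e | e
  · rw [← hκ, relP_of hk] at e; exact absurd e (by simp)
  have hw : wW (κ F) (κ G) (κ B) = κ (wW F G B) := (map_wW κ.toMonoidHom F G B).symm
  have hz : zW (κ F) (κ G) = κ (zW F G) := (map_zW κ.toMonoidHom F G).symm
  have hr3 : κ r * κ r * κ r = 1 := by rw [← map_mul, ← map_mul, ← pow_three', hr, map_one]
  rcases e _ (encA_tri_mem hr3 fun e' => hr1 (κ.injective (e'.trans (map_one κ).symm))) with e | ⟨w, hw', u, hu, e⟩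
  · exfalso
    refine Bool.eq_false_iff.1 e ?_
    simp only [normP, List.all_eq_true, List.any_eq_true, ← hκ, ← encA_zW, ← encA_mul, hz, beq_iff_eq]
    intro x hx
    simp only [List.mem_cons, List.not_mem_nil, or_false] at hx
    obtain ⟨x', hx', rfl⟩ : ∃ x' ∈ [zW F G, F], encA (κ x') = x := by
      rcases hx with rfl | rfl
      exacts [⟨_, by simp, rfl⟩, ⟨_, by simp, rfl⟩]
    obtain ⟨v, hv, hxv⟩ := hn x' hx'
    refine ⟨encA (κ v), ?_, by rw [← encA_mul, ← encA_mul, ← map_mul, ← map_mul, hxv]⟩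
    simp only [List.mem_cons, List.not_mem_nil, or_false] at hv
    rcases hv with rfl | rfl | rfl <;> simp
  simp only [beq_iff_eq, ← hκ, ← encA_zW, ← encA_wW, ← encA_mul, ← encA_one, hz, hw] at hw' hu e
  obtain ⟨w₀, hw₀, rfl⟩ : ∃ w₀ ∈ [1, zW F G, F, zW F G * F], encA (κ w₀) = w := by
    simp only [List.mem_cons, List.not_mem_nil, or_false] at hw'
    rcases hw' with rfl | rfl | rfl | rfl
    exacts [⟨1, by simp, by rw [map_one]⟩, ⟨_, by simp, rfl⟩, ⟨F, by simp, rfl⟩,
      ⟨zW F G * F, by simp, by rw [map_mul]⟩]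
  obtain ⟨u₀, hu₀, rfl⟩ : ∃ u₀ ∈ [wW F G B, wW F G B * wW F G B], encA (κ u₀) = u := by
    simp only [List.mem_cons, List.not_mem_nil, or_false] at hu
    rcases hu with rfl | rfl
    exacts [⟨wW F G B, by simp, rfl⟩, ⟨wW F G B * wW F G B, by simp, by rw [map_mul]⟩]
  refine ⟨w₀, hw₀, u₀, hu₀, κ.injective ?_⟩
  rw [← encA_mul, ← encA_mul, ← map_mul, ← map_mul] at e
  exact encA_inj e

end CfsgLib.SuzIso
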