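import Mathlib

/-!
Facts about the alternating group of degree six and a dihedral subgroup of order eight generated by two
involutions, checked on lists of images.
-/

set_option autoImplicit false
set_option maxRecDepth 100000

namespace CfsgLib.SuzIso

open Equiv

/-- The composite of two lists of images. -/
def cP (a b : List ℕ) : List ℕ := b.map fun x => a.getD x 0

/-- The identity list. -/
def idP : List ℕ := [0, 1, 2, 3, 4, 5]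

/-- The even involutions. -/
def invL : List (List ℕ) := [[0, 1, 3, 2, 5, 4], [0, 1, 4, 5, 2, 3], [0, 1, 5, 4, 3, 2], [0, 2, 1, 3, 5, 4], [0, 2, 1, 4, 3, 5], [0, 2, 1, 5, 4, 3], [0, 3, 2, 1, 5, 4], [0, 3, 4, 1, 2, 5], [0, 3, 5, 1, 4, 2], [0, 4, 2, 5, 1, 3], [0, 4, 3, 2, 1, 5], [0, 4, 5, 3, 1, 2], [0, 5, 2, 4, 3, 1], [0, 5, 3, 2, 4, 1], [0, 5, 4, 3, 2, 1], [1, 0, 2, 3, 5, 4], [1, 0, 2, 4, 3, 5], [1, 0, 2, 5, 4, 3], [1, 0, 3, 2, 4, 5], [1, 0, 4, 3, 2, 5], [1, 0, 5, 3, 4, 2], [2, 1, 0, 3, 5, 4], [2, 1, 0, 4, 3, 5], [2, 1, 0, 5, 4, 3], [2, 3, 0, 1, 4, 5], [2, 4, 0, 3, 1, 5], [2, 5, 0, 3, 4, 1], [3, 1, 2, 0, 5, 4], [3, 1, 4, 0, 2, 5], [3, 1, 5, 0, 4, 2], [3, 2, 1, 0, 4, 5], [3, 4, 2, 0, 1, 5], [3, 5, 2, 0, 4, 1], [4, 1, 2, 5, 0, 3], [4, 1, 3, 2, 0, 5], [4, 1, 5, 3, 0, 2], [4, 2, 1, 3, 0, 5], [4, 3, 2, 1, 0, 5], [4, 5, 2, 3, 0, 1], [5, 1, 2, 4, 3, 0], [5, 1, 3,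 2, 4, 0], [5, 1, 4, 3, 2, 0], [5, 2, 1, 3, 4, 0], [5, 3, 2, 1, 4, 0], [5, 4, 2, 3, 1, 0]]

/-- The even elements of order three. -/
def triL : List (List ℕ) := [[0, 1, 2, 4, 5, 3], [0, 1, 2, 5, 3, 4], [0, 1, 3, 4, 2, 5], [0, 1, 3, 5, 4, 2], [0, 1, 4, 2, 3, 5], [0, 1, 4, 3, 5, 2], [0, 1, 5, 2, 4, 3], [0, 1, 5, 3, 2, 4], [0, 2, 3, 1, 4, 5], [0, 2, 4, 3, 1, 5], [0, 2, 5, 3, 4, 1], [0, 3, 1, 2, 4, 5], [0, 3, 2, 4, 1, 5], [0, 3, 2, 5, 4, 1], [0, 4, 1, 3, 2, 5], [0, 4, 2, 1, 3, 5], [0, 4, 2, 3, 5, 1], [0, 5, 1, 3, 4, 2], [0, 5, 2, 1, 4, 3], [0, 5, 2, 3, 1, 4], [1, 2, 0, 3, 4, 5], [1, 2, 0, 4, 5, 3], [1, 2, 0, 5, 3, 4], [1, 3, 2, 0, 4, 5], [1, 3, 4, 0, 5, 2], [1, 3, 5, 0, 2, 4], [1, 4, 2, 3, 0, 5], [1, 4, 3, 5, 0, 2], [1, 4, 5, 2, 0, 3], [1, 5, 2, 3, 4, 0], [1, 5, 3, 4, 2, 0], [1, 5, 4, 2, 3, 0], [2, 0, 1, 3, 4, 5], [2, 0, 1, 4, 5, 3], [2, 0, 1, 5, 3, 4], [2, 1,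 3, 0, 4, 5], [2, 1, 4, 3, 0, 5], [2, 1, 5, 3, 4, 0], [2, 3, 4, 5, 0, 1], [2, 3, 5, 4, 1, 0], [2, 4, 3, 0, 5, 1], [2, 4, 5, 1, 3, 0], [2, 5, 3, 0, 1, 4], [2, 5, 4, 1, 0, 3], [3, 0, 2, 1, 4, 5], [3, 0, 4, 1, 5, 2], [3, 0, 5, 1, 2, 4], [3, 1, 0, 2, 4, 5], [3, 1, 2, 4, 0, 5], [3, 1, 2, 5, 4, 0], [3, 2, 4, 5, 1, 0], [3, 2, 5, 4, 0, 1], [3, 4, 0, 2, 5, 1], [3, 4, 1, 5, 2, 0], [3, 5, 0, 2, 1, 4], [3, 5, 1, 4, 0, 2], [4, 0, 2, 3, 1, 5], [4, 0, 3, 5, 1, 2], [4, 0, 5, 2, 1, 3], [4, 1, 0, 3, 2, 5], [4, 1, 2, 0, 3, 5], [4, 1, 2, 3, 5, 0], [4, 2, 3, 1, 5, 0], [4, 2, 5, 0, 3, 1], [4, 3, 0, 5, 2, 1], [4, 3, 1, 2, 5, 0], [4, 5, 0, 1, 2, 3], [4, 5, 1, 0, 3, 2], [5, 0, 2, 3, 4, 1], [5, 0, 3, 4, 2, 1], [5, 0, 4, 2, 3, 1], [5, 1, 0, 3, 4, 2], [5, 1, 2, 0, 4, 3], [5, 1, 2, 3, 0, 4], [5, 2, 3, 1, 0, 4], [5, 2, 4, 0, 1, 3], [5, 3, 0, 4, 1, 2], [5, 3, 1, 2, 0, 4], [5, 4, 0, 1, 3,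 2], [5, 4, 1, 0, 2, 3]]

/-- The central involution. -/
def zP (F G : List ℕ) : List ℕ := cP (cP F G) (cP F G)

/-- The word normalising the first four group. -/
def wP (F G B : List ℕ) : List ℕ := cP (cP (cP (cP (cP B F) (zP F G)) B) (zP F G)) B

/-- The cube. -/
def p3 (a : List ℕ) : List ℕ := cP (cP a a) a

/-- The fifth power. -/
def p5 (a : List ℕ) : List ℕ := cP (cP (p3 a) a) a

/-- The standard involution. -/
def F0 : List ℕ := [1, 0, 3, 2, 4, 5]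

/-- The pair generates a dihedral group of order eight. -/
def okP (F G : List ℕ) : Bool := zP F G != idP && cP (zP F G) (zP F G) == idP

/-- The relations of the third generator. -/
def relP (F G B : List ℕ) : Bool :=
  p5 (cP (zP F G) B) == idP && p3 (cP B F) == idP && p3 (cP B G) == idP && p5 (cP (cP B F) G) == idP &&
    cP (zP F G) B != cP B (zP F G)

/-- A list normalising the first four group. -/
def normP (F G r : List ℕ) : Bool :=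
  [zP F G, F].all fun x => [zP F G, F, cP (zP F G) F].any fun v => cP r x == cP v r

theorem exists_list : ([F0].all fun F => invL.all fun G => !okP F G || invL.any fun B => relP F G B) = true := by
  decide +kernel

theorem norm_list : ([F0].all fun F => invL.all fun G => !okP F G || invL.all fun B => !relP F G B ||
    (p3 (wP F G B) == idP && wP F G B != idP && normP F G (wP F G B))) = true := by
  decide +kernel

theorem unique_list : ([F0].all fun F => invL.all fun G => !okP F G || invL.all fun B => !relP F G B ||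
    invL.all fun B' => !relP F G B' || !((wP F G B' == wP F G B) == (wP G F B' == wP G F B)) ||
      (B' == B || B' == cP (cP (zP F G) B) (zP F G))) = true := by
  decide +kernel

theorem tri_list : ([F0].all fun F => invL.all fun G => !okP F G || invL.all fun B => !relP F G B ||
    triL.all fun r => !normP F G r ||
      [idP, zP F G, F, cP (zP F G) F].any fun w =>
        [wP F G B, cP (wP F G B) (wP F G B)].any fun x => r == cP (cP w x) w) = true := by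
  decide +kernel

/-! ### Transfer -/

/-- The list of a permutation. -/
def encP (s : Perm (Fin 6)) : List ℕ := List.ofFn fun i => (s i).val

theorem encP_mul (s t : Perm (Fin 6)) : encP (s * t) = cP (encP s) (encP t) := by
  rw [encP, encP, encP, cP, List.map_ofFn]
  congr 1
  funext j
  rw [Function.comp_apply, List.getD_eq_getElem _ _ (by simp), List.getElem_ofFn]
  rfl

theorem encP_one : encP 1 = idP := by decide +kernel

theorem encP_inj {s t : Perm (Fin 6)} (h : encP s = encP t) : s = t :=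
  Equiv.ext fun i => Fin.ext (congrFun (List.ofFn_injective h) i)

/-- Conjugating permutations. -/
def tauL : List (Perm (Fin 6)) := [swap 0 4 * swap 1 5 * swap 2 4 * swap 3 5, swap 0 4 * swap 1 5 * swap 2 4 * swap 4 5, swap 0 4 * swap 1 5 * swap 2 4 * swap 3 4, swap 0 4 * swap 1 4 * swap 2 4 * swap 3 5, swap 0 4 * swap 1 4 * swap 2 4 * swap 3 4, swap 0 4 * swap 1 4 * swap 2 4 * swap 4 5, swap 0 4 * swap 1 4 * swap 2 5 * swap 3 4, swap 0 4 * swap 1 4 * swap 2 3 * swap 3 4, swap 0 4 * swap 1 4 * swap 3 4 * swap 4 5, swap 0 4 * swap 1 4 * swap 2 5 * swap 3 5, swap 0 4 * swap 1 4, swap 0 4 * swap 1 4 * swap 2 3 * swap 3 5, swap 0 4 * swap 1 4 * swap 2 5 * swap 4 5, swap 0 4 * swap 1 4 * swap 2 3 * swap 4 5, swap 0 4 * swap 1 4 * swap 3 5 * swap 4 5, swap 2 4 * swap 3 5, swap 2 4 * swap 3 4, swap 2 4 * swap 4 5, 1, swap 3 5 * swap 4 5, swap 3 4 * swap 4 5, swap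 1 4 * swap 2 4 * swap 3 5 * swap 4 5, swap 1 4 * swap 2 4, swap 1 4 * swap 2 4 * swap 3 4 * swap 4 5, swap 1 2 * swap 4 5, swap 1 2 * swap 3 4, swap 1 2 * swap 3 5, swap 1 4 * swap 2 5 * swap 3 4 * swap 4 5, swap 1 4 * swap 3 4, swap 1 4 * swap 2 3 * swap 3 4 * swap 4 5, swap 1 2 * swap 2 3, swap 1 2 * swap 2 5 * swap 3 5 * swap 4 5, swap 1 2 * swap 2 4 * swap 3 4 * swap 4 5, swap 1 4 * swap 2 5, swap 1 4 * swap 2 3, swap 1 4 * swap 3 5, swap 1 2 * swap 2 3 * swap 3 5 * swap 4 5, swap 1 2 * swap 2 4, swap 1 2 * swap 2 5 * swap 3 4 * swap 4 5, swap 1 4 * swap 2 5 * swap 3 5 * swap 4 5, swap 1 4 * swap 4 5, swap 1 4 * swap 2 3 * swap 3 5 * swap 4 5, swap 1 2 * swap 2 3 * swap 3 4 * swap 4 5, swap 1 2 * swap 2 5, swap 1 2 * swap 2 4 * swap 3 5 * swap 4 5]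

theorem conj_list : (∀ x ∈ invL, ∃ t ∈ tauL, cP (encP t) x = cP F0 (encP t)) ∧ ∀ t ∈ tauL, Perm.sign t = 1 := by
  decide +kernel

theorem encP_mem : ∀ s : Perm (Fin 6), Perm.sign s = 1 → s ≠ 1 →
    (s * s = 1 → encP s ∈ invL) ∧ (s * s * s = 1 → encP s ∈ triL) := by
  decide +kernel

end CfsgLib.SuzIso
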