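import Cfsg.Agent.SuzIso.CoordCalc

/-!
The generators inside the centraliser of the involution.
-/

set_option autoImplicit false
set_option linter.style.haveILetI false
set_option maxRecDepth 100000

namespace CfsgLib.SuzIso

open CfsgLib CfsgLib.Quad CfsgLib.SuzInvol CfsgLib.SuzThree CfsgLib.SuzSeven CfsgLib.SuzOrder Subgroup

variable {G : Type*} [Group G] [Finite G] {z : G} {D : Dat z} {B : Base D} {y t : G}

/-- The elements of the centraliser used for the presentation. -/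
structure Gens (B : Base D) (y t p σ f g : G) : Prop where
  pC : p ∈ centralizer ({z} : Set G)
  p5 : p ^ 5 = 1
  pact : actG D p = oW pword
  tp : t * p * t⁻¹ = p⁻¹
  σC : σ ∈ centralizer ({z} : Set G)
  σp : σ * p * σ⁻¹ = p ^ 2
  σt : σ * t = t * σ
  fQ : f ∈ D.Q
  gQ : g ∈ D.Q
  f2 : f * f = 1
  g2 : g * g = 1
  fπ : D.π f = vec 2
  gπ : D.π g = vec 8
  fg : f * g * (f * g) = z
  sf : B.s * f = f * B.s
  sg : B.s * g = g * B.s
  tf : t * f = f * t
  tg : t * g = g * t
  yf : y * f = f * y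
  yg : y * g = g * y
  pf : p * f = f * p
  pg : p * g = g * p
  σf : σ * f * σ⁻¹ = g
  σg : σ * g * σ⁻¹ = f
  dsc : B.s * (y * t * p * B.s * (y * t * p)⁻¹) * (B.s * (y * t * p * B.s * (y * t * p)⁻¹)) = z
  clean : ∀ K : Subgroup G, z ∉ K → y ∈ K → t ∈ K → p ∈ K →
    y * t * p * (y * t * p) = 1 ∧ y * t * p * y * (y * t * p)⁻¹ = y⁻¹ ∧ (y * t * p * t) ^ 3 = 1
  twist : ∃ q : G, q * t * q⁻¹ = t * z ∧ q * z = z * q ∧
    ∀ K : Subgroup G, z ∉ K → p ∈ K → q * y * q⁻¹ ∈ K → False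

omit [Finite G] in
theorem yt_cube (T : Three D y) (hS : Seed B y t) : (y * t) ^ 3 = 1 := by
  have h1 := hS.prod
  have e3 : y * y * y = 1 := by rw [← pow_three', T.three]
  calc (y * t) ^ 3 = y * t * (y * t) * (y * t) := by rw [pow_three']
    _ = t⁻¹ * (t * (y * t * y⁻¹) * (y * (y * t * y⁻¹) * y⁻¹)) * (y * y * y) * t := by group
    _ = 1 := by rw [h1, e3]; group

/-- A central correction disappears on raising to an odd power. -/
theorem eq_of_odd {x u : G} {n : ℕ} (hn : Odd n) (hx : x ^ n = 1) (hu : u ^ n = 1)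
    (huz : u * z = z * u) (hz : z * z = 1) (hz1 : z ≠ 1) (h : x = u ∨ x = u * z) : x = u := by
  refine h.resolve_right fun e => hz1 ?_
  have h1 := hx
  obtain ⟨k, rfl⟩ := hn
  rw [e, (show Commute u z from huz).mul_pow, hu, one_mul, pow_succ, pow_mul, pow_two, hz, one_pow, one_mul] at h1
  exact h1

theorem exists_gens (T : Three D y) (hS : Seed B y t) : ∃ p σ f g : G, Gens B y t p σ f g := by
  obtain ⟨co, hq0⟩ := exists_co D B.sQ (B.πs.trans vec1.symm)
  have hz2 : z * z = 1 := D.pre.gen.sq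
  have hz1 : z ≠ 1 := D.pre.gen.ne_one
  obtain ⟨hwP, hwS, -, heP, heS, -, -⟩ := word_facts
  obtain ⟨ε, ht⟩ := co.rep_act hq0 (by norm_num : 16 < 64) (by norm_num : 32 < 64) hS.rep
  have ht2 : t * t = 1 := hS.t_sq T
  have htz : t * z = z * t := hS.tz T
  have hyz : y * z = z * y := mem_centralizer_singleton_iff.1 T.mem
  have hs1 : co.el 1 = B.s := co.el_one hq0
  -- the list of the rotation
  obtain ⟨Y, hy⟩ := co.exists_act T.mem
  have hw0 : okL w0 = true := okL_small.1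
  obtain ⟨m, hYm⟩ : ∃ m : Fin 64, Y = yBits m.val := by
    obtain ⟨m, hm⟩ : ∃ m : Fin 64, ∀ i : Fin 6, m.val.testBit i.val = hi (Y.getD i.val 0) :=
      (by decide +kernel : ∀ δ : Fin 6 → Bool, ∃ m : Fin 64, ∀ i : Fin 6, m.val.testBit i.val = δ i) _
    refine ⟨m, List.ext_getElem (by rw [hy.2.1.1]; simp [yBits]) fun i h1 h2 => ?_⟩
    have hi6 : i < 6 := by rw [← hy.2.1.1]; exact h1
    have e1 : Y.getD i 0 % 64 = aN w0 (2 ^ i) := by
      refine vec_inj (Nat.mod_lt _ (by norm_num)) (aN_lt hw0 (Nat.pow_lt_pow_right (by norm_num) hi6)) ?_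
      rw [← co.act_lin hy hi6, T.act, oW_apply hw0 (Nat.pow_lt_pow_right (by norm_num) hi6)]
    rw [List.getD_eq_getElem _ _ h1] at e1
    have e2 := hm ⟨i, hi6⟩
    simp only at e2
    rw [List.getD_eq_getElem _ _ h1] at e2
    have hlt := hy.2.1.2 i hi6
    rw [List.getD_eq_getElem _ _ h1] at hlt
    simp only [yBits, List.getElem_map, List.getElem_range]
    rw [e2, ← e1, split128 _ hlt]
  subst hYm
  set Y := yBits m.val with hYd
  set Tl := repA 16 32 ε with hTd
  have hy2 : co.Act (y ^ 2) (powA Y 2) := co.act_pow hy 2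
  have hY3 : powA Y 3 = idA := co.act_unique (co.act_pow hy 3) (T.three ▸ co.act_one)
  have hY0 : Y.getD 0 0 = 1 := by
    refine co.el_inj (hy.2.1.2 0 (by norm_num)) (by norm_num) ?_
    rw [← hy.2.2 0 (by norm_num), hs1, hq0]
    exact mul_inv_eq_iff_eq_mul.2 (Three.y_s T B)
  have hyinv : y⁻¹ = y ^ 2 := inv_eq_of_mul_eq_one_right (by rw [← pow_succ', T.three])
  have hYprod : compA (compA Tl (compA (compA Y Tl) (powA Y 2))) (compA (compA (powA Y 2) Tl) Y) = idA := by
    refine co.act_unique ?_ co.act_one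
    have h := co.act_mul (co.act_mul ht (co.act_mul (co.act_mul hy ht) hy2))
      (co.act_mul (co.act_mul hy2 ht) hy)
    have e : t * (y * t * y ^ 2) * (y ^ 2 * t * y) = 1 := by
      have h1 := hS.prod
      calc t * (y * t * y ^ 2) * (y ^ 2 * t * y) = t * (y * t * y ^ 2) * (y ^ 2 * t * (y ^ 2)⁻¹) * y ^ 3 := by group
        _ = t * (y * t * y⁻¹) * (y * (y * t * y⁻¹) * y⁻¹) * 1 := by
          rw [T.three, show y * t * y ^ 2 = y * t * y⁻¹ by rw [hyinv]]; group
        _ = 1 := by rw [mul_one, h1]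
    rwa [e] at h
  have hchk := y_cases ε m hY3 hY0 hYprod
  set P := pL ε (m.val.testBit 4) with hPd
  set S := sL ε (m.val.testBit 4) with hSd
  simp only [chk, okB, Bool.and_eq_true, beq_iff_eq, decide_eq_true_eq, List.all_eq_true, List.mem_range,
    List.mem_cons, List.not_mem_nil, or_false, forall_eq_or_imp, forall_eq] at hchk
  obtain ⟨⟨⟨⟨⟨⟨⟨⟨⟨⟨⟨⟨⟨⟨⟨⟨⟨⟨⟨⟨hokP, hokS⟩, hlin⟩, hP5⟩, hTP⟩, hSS⟩, hSP⟩, hd2⟩, hdY⟩, hdT⟩, hd1⟩, hfix⟩,
    hS2⟩, hS8⟩, hT1⟩, hY1⟩, hT16⟩, hYT⟩, hW⟩, hbn⟩, hlt17⟩ := hchk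
  -- the element of order five
  obtain ⟨x, hx, hxa⟩ := co.realise (h := oW pword) ((parity_mem hwP).2 heP) hokP fun i hi6 => by
    rw [oW_apply hwP (Nat.pow_lt_pow_right (by norm_num) hi6), (hlin i hi6).1]
  obtain ⟨p, hp, hp5, hpa⟩ : ∃ p, co.Act p P ∧ p ^ 5 = 1 ∧ actG D p = oW pword := by
    have hx5 : co.Act (x ^ 5) idA := hP5 ▸ co.act_pow hx 5
    rcases co.act_id hx5 with e | e
    · exact ⟨x, hx, e, hxa⟩
    · refine ⟨z * x, co.act_zmul hx (Or.inr rfl), ?_, ?_⟩
      · rw [(show Commute z x from (mem_centralizer_singleton_iff.1 hx.1).symm).mul_pow, e,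
          ← pow_succ, show (5 + 1 : ℕ) = 2 * 3 from rfl, pow_mul, pow_two, hz2, one_pow]
      · rw [actG_mul D (mem_centralizer_singleton_iff.2 rfl) hx.1, hxa, actG_Q D D.pre.gen.mem, one_mul]
  have hpz : p * z = z * p := mem_centralizer_singleton_iff.1 hp.1
  have htinv : t⁻¹ = t := inv_eq_of_mul_eq_one_right ht2
  have hp4 : p⁻¹ = p ^ 4 := inv_eq_of_mul_eq_one_right (by rw [← pow_succ', hp5])
  have htp : t * p * t⁻¹ = p⁻¹ := by
    have h1 : co.Act (t * p * t) (powA P 4) := hTP ▸ co.act_mul (co.act_mul ht hp) ht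
    rw [htinv, hp4]
    refine eq_of_odd (n := 5) ⟨2, rfl⟩ ?_ (by rw [← pow_mul, mul_comm, pow_mul, hp5, one_pow])
      ((show Commute p z from hpz).pow_left 4).eq hz2 hz1 (co.act_eq (co.act_pow hp 4) h1)
    nth_rewrite 2 [← htinv]
    rw [conj_pow, hp5, mul_one, mul_inv_cancel]
  -- the squaring element
  obtain ⟨σ, hσ, -⟩ := co.realise (h := oW sword) ((parity_mem hwS).2 heS) hokS fun i hi6 => by
    rw [oW_apply hwS (Nat.pow_lt_pow_right (by norm_num) hi6), (hlin i hi6).2]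
  have hσz : σ * z = z * σ := mem_centralizer_singleton_iff.1 hσ.1
  have hσt : σ * t = t * σ := by
    have e := co.act_eq ht (hSS ▸ co.act_mul hσ hσ)
    rcases e with e | e
    · rw [← e, mul_assoc]
    · have e' : t = σ * σ * z := by rw [e, mul_assoc, hz2, mul_one]
      rw [e', mul_assoc (σ * σ) z σ, ← hσz]
      group
  have hσp : σ * p * σ⁻¹ = p ^ 2 := by
    have e := co.act_eq (co.act_mul (co.act_pow hp 2) hσ) (hSP ▸ co.act_mul hσ hp)
    refine eq_of_odd (n := 5) ⟨2, rfl⟩ (by rw [conj_pow, hp5, mul_one, mul_inv_cancel])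
      (by rw [← pow_mul, mul_comm, pow_mul, hp5, one_pow]) ((show Commute p z from hpz).pow_left 2).eq hz2 hz1 ?_
    rcases e with e | e
    · left; rw [e, mul_inv_cancel_right]
    · right; rw [e, mul_assoc (p ^ 2) σ z, hσz]; group
  -- exact computations in the extraspecial group
  have hconj : ∀ {x : G} {A : List ℕ}, co.Act x A → ∀ n, apA A n = n → x * co.el n = co.el n * x :=
    fun hA n e => by
      have h := (co.act_el hA n).1
      rw [e] at h
      exact mul_inv_eq_iff_eq_mul.1 h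
  obtain ⟨⟨hT2', hT8'⟩, ⟨hY2', hY8'⟩, ⟨hP2', hP8'⟩, -⟩ := hfix
  have hm : ∀ a b : ℕ, m128 a b = m128 b a → co.el a * co.el b = co.el b * co.el a := fun a b e => by
    rw [co.el_mul, co.el_mul, e]
  refine ⟨p, σ, co.el 2, co.el 8, hp.1, hp5, hpa, htp, hσ.1, hσp, hσt, co.el_mem 2, co.el_mem 8, ?_, ?_,
    co.π_el 2, co.π_el 8, ?_, ?_, ?_, hconj ht 2 hT2', hconj ht 8 hT8', hconj hy 2 hY2', hconj hy 8 hY8',
    hconj hp 2 hP2', hconj hp 8 hP8', ?_, ?_, ?_, ?_, ?_⟩
  · rw [co.el_mul, show m128 2 2 = 0 by decide]; exact co.el_sixty.2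
  · rw [co.el_mul, show m128 8 8 = 0 by decide]; exact co.el_sixty.2
  · rw [co.el_mul, co.el_mul, show m128 (m128 2 8) (m128 2 8) = 64 by decide]; exact co.el_sixty.1
  · rw [← hs1]; exact hm 1 2 (by decide)
  · rw [← hs1]; exact hm 1 8 (by decide)
  · rw [(co.act_el hσ 2).1, hS2]
  · rw [(co.act_el hσ 8).1, hS8]
  · rw [← hs1, (co.act_el (co.act_mul (co.act_mul hy ht) hp) 1).1]
    rw [show apA (compA (compA Y Tl) P) 1 = 4 from hd1, co.el_mul, co.el_mul,
      show m128 (m128 1 4) (m128 1 4) = 64 by decide]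
    exact co.el_sixty.1
  · intro K hzK hyK htK hpK
    have hK : ∀ {u : G} {A : List ℕ}, co.Act u A → A = idA → u ∈ K → u = 1 := fun hu e huK =>
      (co.act_id (e ▸ hu)).resolve_right fun e' => hzK (e' ▸ huK)
    have hd : co.Act (y * t * p) (compA (compA Y Tl) P) := co.act_mul (co.act_mul hy ht) hp
    have hdK : y * t * p ∈ K := mul_mem (mul_mem hyK htK) hpK
    have h2 : y * t * p * (y * t * p) = 1 := hK (co.act_mul hd hd) hd2 (mul_mem hdK hdK)
    refine ⟨h2, ?_, hK (co.act_pow (co.act_mul hd ht) 3) hdT (pow_mem (mul_mem hdK htK) 3)⟩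
    rw [inv_eq_of_mul_eq_one_right h2, hyinv]
    have h3 : co.Act (y * t * p * y * (y * t * p)) (powA Y 2) := hdY ▸ co.act_mul (co.act_mul hd hy) hd
    refine ((co.act_eq (co.act_pow hy 2) h3)).resolve_right fun e => hzK ?_
    have h4 : (y ^ 2)⁻¹ * (y * t * p * y * (y * t * p)) = z := by rw [e, inv_mul_cancel_left]
    rw [← h4]
    exact mul_mem (inv_mem (pow_mem hyK 2)) (mul_mem (mul_mem hdK hyK) hdK)
  · have hq : co.el 16 * co.el 80 = 1 := by
      rw [co.el_mul, show m128 16 80 = 0 by decide]; exact co.el_sixty.2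
    have hqi : (co.el 16)⁻¹ = co.el 80 := inv_eq_of_mul_eq_one_right hq
    refine ⟨co.el 16, ?_, co.el_z 16, fun K hzK hpK hyK => ?_⟩
    · have h16 := (co.act_el ht 16).1
      rw [hT16] at h16
      have e80 : co.el 80 = co.el 16 * z := by
        have h := co.el_mul 16 64
        rw [co.el_sixty.1, show m128 16 64 = 80 by decide] at h
        exact h.symm
      rw [e80] at h16
      have e1 : t * co.el 16 = co.el 16 * z * t := mul_inv_eq_iff_eq_mul.1 h16
      rw [mul_inv_eq_iff_eq_mul, mul_assoc, ← co.el_z, ← mul_assoc, e1, mul_assoc (co.el 16) z t, ← htz,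
        ← mul_assoc (co.el 16) t z, mul_assoc _ z z, hz2, mul_one]
    · have hye : co.Act (co.el 16 * y * (co.el 16)⁻¹) (yeL Y) := by
        rw [hqi]
        exact co.act_mul (co.act_mul (co.act_inner (m := 16) (by norm_num)) hy) (co.act_inner (m := 80) (by norm_num))
      set ye := co.el 16 * y * (co.el 16)⁻¹
      have hWact : co.Act (p * p * ye * p * p * ye) (inA 17) :=
        hW ▸ co.act_mul (co.act_mul (co.act_mul (co.act_mul (co.act_mul hp hp) hye) hp) hp) hye
      obtain ⟨u, huK, hu⟩ : ∃ u, u ∈ K ∧ (u = co.el 17 ∨ u = co.el 17 * z) :=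
        ⟨_, mul_mem (mul_mem (mul_mem (mul_mem (mul_mem hpK hpK) hyK) hpK) hpK) hyK,
          co.act_eq (co.act_inner (m := 17) (by norm_num)) hWact⟩
      obtain ⟨n, hn⟩ : ∃ n, n = apA (yeL Y) 17 := ⟨_, rfl⟩
      have hv : ye * co.el 17 * ye⁻¹ = co.el n := hn ▸ (co.act_el hye 17).1
      have hyez : ye * z = z * ye := mem_centralizer_singleton_iff.1 hye.1
      have hv' : ye * u * ye⁻¹ = co.el n ∨ ye * u * ye⁻¹ = co.el n * z := by
        rcases hu with rfl | rfl
        · exact Or.inl hv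
        · right
          rw [← hv, show ye * (co.el 17 * z) * ye⁻¹ = ye * co.el 17 * ye⁻¹ * (ye * z * ye⁻¹) by group, hyez,
            mul_inv_cancel_right]
      have hvK : ye * u * ye⁻¹ ∈ K := mul_mem (mul_mem hyK huK) (inv_mem hyK)
      have hc : ∀ a b : G, (a = co.el 17 ∨ a = co.el 17 * z) → (b = co.el n ∨ b = co.el n * z) →
          a * b = b * a * z := by
        have h0 : co.el 17 * co.el n = co.el n * co.el 17 * z := by
          rw [comm_code (co.el_mem 17) (co.el_mem n) (by norm_num : 17 < 64) (Nat.mod_lt _ (by norm_num))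
            (co.π_el 17) (co.π_el n), hn, hbn, zb, if_pos rfl]
        intro a b ha hb
        have hza : ∀ k : ℕ, z * co.el k = co.el k * z := fun k => (co.el_z k).symm
        rcases ha with rfl | rfl <;> rcases hb with rfl | rfl
        · exact h0
        · rw [← mul_assoc, h0, mul_assoc (co.el n) z, hza 17, ← mul_assoc]
        · rw [mul_assoc, hza n, ← mul_assoc, h0, ← mul_assoc]
        · rw [mul_assoc (co.el 17) z, ← mul_assoc z, hza n, mul_assoc (co.el n) z, hz2, mul_one, h0,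
            mul_assoc (co.el n) z, ← mul_assoc z, hza 17, mul_assoc (co.el 17) z, hz2, mul_one]
      apply hzK
      have e := hc u _ hu hv'
      have : z = (ye * u * ye⁻¹ * u)⁻¹ * (u * (ye * u * ye⁻¹)) := by rw [e]; group
      rw [this]
      exact mul_mem (inv_mem (mul_mem hvK huK)) (mul_mem huK hvK)

end CfsgLib.SuzIso
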