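import Cfsg.Agent.SuzOrder.Count
import Cfsg.Agent.SuzFive.Five

/-!
The finite facts about automorphisms of the extraspecial group used for the generators.
-/

set_option autoImplicit false
set_option maxRecDepth 100000
set_option maxHeartbeats 2000000

namespace CfsgLib.SuzIso

open CfsgLib CfsgLib.SuzThree CfsgLib.SuzOrder CfsgLib.SuzInvol

/-- The linear word of the element of order five. -/
def pword : List ℕ := [5, 16, 5, 17, 5, 32]

/-- The linear word of the squaring element. -/
def sword : List ℕ := [5, 10, 5, 16, 5, 32, 5, 33]

/-- The word moving the element of order five to the standard one. -/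
def gword : List ℕ := [5, 16, 5, 22, 5, 28, 5, 31]

/-- The lists over the rotation with given bits. -/
def yBits (m : ℕ) : List ℕ := (List.range 6).map fun i => mk128 (aN w0 (2 ^ i)) (m.testBit i)

/-- The element of order five, by the sign and the fifth entry of the rotation. -/
def pL (ε : Bool) (h : Bool) : List ℕ := [mk128 21 ε, 2, 1, 8, mk128 49 (Bool.xor (!ε) h), 33]

/-- The squaring element. -/
def sL (ε : Bool) (h : Bool) : List ℕ := [65, 8, mk128 53 (!h), 2, 17, mk128 48 ε]

/-- The inverting involution. -/
def dL (T Y P : List ℕ) : List ℕ := compA (compA Y T) P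

/-- The rotation over another inverted involution. -/
def yeL (Y : List ℕ) : List ℕ := compA (compA (inA 16) Y) (inA 16)

/-- The list has six entries below 128. -/
def okB (A : List ℕ) : Bool := A.length == 6 && (List.range 6).all fun i => decide (A.getD i 0 < 128)

/-- The required facts. -/
def chk (T Y P S : List ℕ) : Bool :=
  okB P && okB S &&
  (List.range 6).all (fun i => P.getD i 0 % 64 == aN pword (2 ^ i) && S.getD i 0 % 64 == aN sword (2 ^ i)) &&
  powA P 5 == idA && compA (compA T P) T == powA P 4 && compA S S == T && compA S P == compA (powA P 2) S &&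
  compA (dL T Y P) (dL T Y P) == idA && compA (compA (dL T Y P) Y) (dL T Y P) == powA Y 2 &&
  powA (compA (dL T Y P) T) 3 == idA && apA (dL T Y P) 1 == 4 &&
  [T, Y, P, dL T Y P].all (fun A => apA A 2 == 2 && apA A 8 == 8) && apA S 2 == 8 && apA S 8 == 2 &&
  apA T 1 == 1 && apA Y 1 == 1 && apA T 16 == 80 && powA (compA Y T) 3 == idA &&
  compA (compA (compA (compA (compA P P) (yeL Y)) P) P) (yeL Y) == inA 17 &&
  bN 17 (apA (yeL Y) 17 % 64) && decide (apA (yeL Y) 17 < 128)

theorem y_cases : ∀ ε : Bool, ∀ m : Fin 64, powA (yBits m.val) 3 = idA → (yBits m.val).getD 0 0 = 1 →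
    compA (compA (repA 16 32 ε) (compA (compA (yBits m.val) (repA 16 32 ε)) (powA (yBits m.val) 2)))
      (compA (compA (powA (yBits m.val) 2) (repA 16 32 ε)) (yBits m.val)) = idA →
    chk (repA 16 32 ε) (yBits m.val) (pL ε (m.val.testBit 4)) (sL ε (m.val.testBit 4)) = true := by
  decide +kernel

theorem word_facts : okL pword = true ∧ okL sword = true ∧ okL gword = true ∧ Even pword.length ∧
    Even sword.length ∧ Even gword.length ∧
    sameW (gword ++ pword) (SuzFive.fw ++ gword) = true := by
  decide +kernel

end CfsgLib.SuzIso
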