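import Cfsg.Agent.SuzIso.A6
import Cfsg.Agent.SuzIso.Coord
import Cfsg.Agent.SuzFive.Cent
import Cfsg.Agent.SuzOrder.CentT
import Cfsg.Agent.InvChar.ThreeSixty

/-!
The second generator, in the centraliser of the element of order five.
-/

set_option autoImplicit false
set_option linter.style.haveILetI false
set_option maxRecDepth 100000

namespace CfsgLib.SuzIso

open CfsgLib CfsgLib.Quad CfsgLib.SuzInvol CfsgLib.SuzThree CfsgLib.SuzSeven CfsgLib.SuzFive CfsgLib.SuzOrder Subgroup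
open CfsgLib.SuzEleven (cX mem_cX)
open Cfsg.Agent.McLU43 (K9)

local notation "PSU4" => Cfsg.PSU 4 K9 3

theorem conj_of_inv {x y : A6} (hx : x * x = 1) (hx1 : x ≠ 1) (hy : y * y = 1) (hy1 : y ≠ 1) :
    ∃ h : A6, h * x * h⁻¹ = y := by
  let F' : A6 := ⟨Equiv.swap 0 1 * Equiv.swap 2 3, Equiv.Perm.mem_alternatingGroup.2 (by decide)⟩
  have hF' : encA F' = F0 := by decide +kernel
  have key : ∀ u : A6, u * u = 1 → u ≠ 1 → ∃ τ : A6, τ * u * τ⁻¹ = F' := by
    intro u hu hu1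
    obtain ⟨t, ht, e⟩ := conj_list.1 _ (encA_inv_mem hu hu1)
    let τ : A6 := ⟨t, Equiv.Perm.mem_alternatingGroup.2 (conj_list.2 t ht)⟩
    refine ⟨τ, mul_inv_eq_iff_eq_mul.2 (encA_inj ?_)⟩
    rw [encA_mul, encA_mul, hF']
    exact e
  obtain ⟨a, ha⟩ := key x hx hx1
  obtain ⟨b, hb⟩ := key y hy hy1
  refine ⟨b⁻¹ * a, ?_⟩
  calc b⁻¹ * a * x * (b⁻¹ * a)⁻¹ = b⁻¹ * (a * x * a⁻¹) * b := by group
    _ = y := by rw [ha, ← hb]; group

variable {G : Type*} [Group G] [Finite G] {z : G} {D : Dat z}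

/-- The quotient of the centraliser of an element of order five. -/
theorem exists_alt {f : G} (F : Five D f) (B : Base D)
    (hC : Nat.card (centralizer ({z} : Set G)) = 3317760) (hG : Nat.card G = 448345497600) :
    ∃ Φ : centralizer ({f} : Set G) →* A6,
      Function.Surjective Φ ∧ ∀ x, Φ x = 1 ↔ (x : G) ∈ zpowers f := by
  classical
  haveI : Fact (Nat.Prime 5) := ⟨Nat.prime_five⟩
  obtain ⟨t, a, b, E, hno2⟩ := F.eight B hC
  set H := centralizer ({f} : Set G) with hHd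
  have hHcard : Nat.card H = Nat.card (H ⧸ kerF f) * 5 := by
    rw [card_eq_card_quotient_mul_card_subgroup (kerF f)]
    congr 1
    rw [kerF, Nat.card_congr (subgroupOfEquivOfLe (zpowers_le.2 (mem_centralizer_singleton_iff.2 rfl))).toEquiv,
      Nat.card_zpowers, F.order]
  have h25 : 25 ∣ Nat.card H := by
    obtain ⟨S, hS⟩ := (IsPGroup.of_card (n := 1) (by rw [Nat.card_zpowers, F.order, pow_one]) :
      IsPGroup 5 (zpowers f)).exists_le_sylow
    have hScard : Nat.card (S : Subgroup G) = 5 ^ 2 :=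
      S.card_eq_multiplicity.trans (by rw [hG, five_fac])
    have hle : (S : Subgroup G) ≤ H := by
      intro s hs
      refine mem_centralizer_singleton_iff.2 ?_
      exact congrArg Subtype.val (IsPGroup.commutative_of_card_eq_prime_sq hScard
        (⟨s, hs⟩ : (S : Subgroup G)) ⟨f, hS (mem_zpowers f)⟩)
    have := card_dvd_of_le hle
    rwa [hScard] at this
  have h360 : Nat.card (H ⧸ kerF f) = 360 := by
    refine (E.card_eq hno2).resolve_left fun e => ?_
    rw [hHcard, e] at h25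
    norm_num at h25
  haveI := E.isSimpleGroup hno2
  obtain ⟨e⟩ := InvChar.iso_alternatingSix h360
  refine ⟨e.toMonoidHom.comp (QuotientGroup.mk' (kerF f)),
    e.surjective.comp (QuotientGroup.mk'_surjective _), fun x => ?_⟩
  rw [MonoidHom.comp_apply, MulEquiv.coe_toMonoidHom, MulEquiv.map_eq_one_iff, QuotientGroup.mk'_apply,
    QuotientGroup.eq_one_iff, kerF, mem_subgroupOf]

variable {B : Base D} {y t p σ f g : G}

theorem Gens.exists_alt (W : Gens B y t p σ f g) (hC : Nat.card (centralizer ({z} : Set G)) = 3317760)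
    (hG : Nat.card G = 448345497600) :
    ∃ Φ : centralizer ({p} : Set G) →* A6,
      Function.Surjective Φ ∧ ∀ x, Φ x = 1 ↔ (x : G) ∈ zpowers p := by
  obtain ⟨-, -, hg, -, -, heg, hsame⟩ := word_facts
  obtain ⟨c, hc, hca⟩ := actG_surj D ((parity_mem hg).2 heg : oW gword ∈ commutator (oGroup q6))
  have hF : Five D (c * p * c⁻¹) := by
    refine ⟨mul_mem (mul_mem hc W.pC) (inv_mem hc), by rw [conj_pow, W.p5, mul_one, mul_inv_cancel], ?_⟩
    rw [actG_mul D (mul_mem hc W.pC) (inv_mem hc), actG_mul D hc W.pC, actG_inv D hc, hca, W.pact,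
      mul_inv_eq_iff_eq_mul, ← oW_append, ← oW_append]
    refine oW_eq ?_ ?_ hsame
    · rw [okL_append, hg, word_facts.1]; rfl
    · rw [okL_append, hg, SuzFive.fw_facts.1.1]; rfl
  obtain ⟨Φ, hs, hk⟩ := SuzIso.exists_alt hF B hC hG
  have hmem : ∀ x : G, x ∈ centralizer ({p} : Set G) ↔ c * x * c⁻¹ ∈ centralizer ({c * p * c⁻¹} : Set G) := by
    intro x
    rw [mem_centralizer_singleton_iff, mem_centralizer_singleton_iff,
      show c * x * c⁻¹ * (c * p * c⁻¹) = c * (x * p) * c⁻¹ by group,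
      show c * p * c⁻¹ * (c * x * c⁻¹) = c * (p * x) * c⁻¹ by group, mul_left_inj, mul_right_inj]
  let κ : centralizer ({p} : Set G) →* centralizer ({c * p * c⁻¹} : Set G) :=
    MonoidHom.mk' (fun x => ⟨c * x * c⁻¹, (hmem x).1 x.2⟩) fun a b => Subtype.ext (by
      show c * ((a : G) * b) * c⁻¹ = c * (a : G) * c⁻¹ * (c * (b : G) * c⁻¹)
      group)
  refine ⟨Φ.comp κ, hs.comp fun u => ⟨⟨c⁻¹ * u * c, (hmem _).2 ?_⟩, Subtype.ext ?_⟩, fun x => ?_⟩
  · rw [show c * (c⁻¹ * (u : G) * c) * c⁻¹ = u by group]; exact u.2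
  · show c * (c⁻¹ * (u : G) * c) * c⁻¹ = u
    group
  · rw [MonoidHom.comp_apply, hk]
    show c * (x : G) * c⁻¹ ∈ zpowers (c * p * c⁻¹) ↔ _
    rw [show zpowers (c * p * c⁻¹) = (zpowers p).map (MulAut.conj c).toMonoidHom by
      rw [MonoidHom.map_zpowers]; rfl]
    exact ⟨fun ⟨u, hu, e⟩ => (mul_left_cancel (mul_right_cancel e) : u = x) ▸ hu, fun h => ⟨x, h, rfl⟩⟩

variable (T : Three D y) (hS : Seed B y t) {π : cX y →* PSU4} (P : SuzEleven.Pi T π)
include T hS P

/-- The second generator. -/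
theorem Gens.exists_b (W : Gens B y t p σ f g) (hC : Nat.card (centralizer ({z} : Set G)) = 3317760)
    (hG : Nat.card G = 448345497600) :
    ∃ b : G, b * b = 1 ∧ b ∈ hS.H T ∧ b * p = p * b ∧ b * t = t * b ∧ b * y = y * b ∧ z * b ≠ b * z ∧
      (z * b) ^ 5 = 1 ∧ (b * f) ^ 3 = 1 ∧ (b * g) ^ 3 = 1 ∧ (b * f * g) ^ 5 = 1 := by
  obtain ⟨Φ, hsurj, hker⟩ := W.exists_alt hC hG
  have hz2 : z * z = 1 := D.pre.gen.sq
  have hpz : p * z = z * p := mem_centralizer_singleton_iff.1 W.pC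
  have h5 : ∀ u : G, u ∈ zpowers p → u ^ 5 = 1 := fun u hu => by
    obtain ⟨k, rfl⟩ := mem_zpowers_iff.1 hu
    rw [← zpow_natCast, ← zpow_mul, mul_comm, zpow_mul, zpow_natCast, W.p5, one_zpow]
  have hodd : ∀ u : G, u ^ 5 = 1 → u * u = 1 → u = 1 := fun u h1 h2 => by
    rw [show (5 : ℕ) = 2 * 2 + 1 from rfl, pow_succ, pow_mul, pow_two u, h2, one_pow, one_mul] at h1
    exact h1
  have hcen : ∀ (u : G) (x : centralizer ({p} : Set G)), u ∈ zpowers p → (x : G) * u = u * x := fun u x hu => by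
    obtain ⟨k, rfl⟩ := mem_zpowers_iff.1 hu
    exact ((show Commute (x : G) p from mem_centralizer_singleton_iff.1 x.2).zpow_right k).eq
  have huniq : ∀ u v : centralizer ({p} : Set G), (u : G) * u = 1 → (v : G) * v = 1 → Φ u = Φ v → u = v := by
    intro u v hu hv e
    have hk : (u : G)⁻¹ * v ∈ zpowers p := (hker (u⁻¹ * v)).1 (by rw [map_mul, map_inv, e, inv_mul_cancel])
    obtain ⟨k, hkd⟩ : ∃ k, k = (u : G)⁻¹ * v := ⟨_, rfl⟩
    rw [← hkd] at hk
    have hv' : (v : G) = u * k := by rw [hkd, mul_inv_cancel_left]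
    refine Subtype.ext ?_
    rw [hv', hodd k (h5 k hk) ?_, mul_one]
    calc k * k = (u : G) * u * (k * k) := by rw [hu, one_mul]
      _ = u * (u * k) * k := by group
      _ = u * (k * u) * k := by rw [hcen k u hk]
      _ = (u : G) * k * (u * k) := by group
      _ = 1 := by rw [← hv', hv]
  have hinj2 : ∀ u v : centralizer ({p} : Set G), (u : G) * u = 1 → (v : G) * v = 1 →
      ∀ n : ℕ, Φ ((u * v) ^ n) = 1 → ((u : G) * v) ^ n = 1 := by
    intro u v hu hv n e
    have hk : ((u : G) * v) ^ n ∈ zpowers p := by simpa using (hker _).1 e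
    refine hodd _ (h5 _ hk) ?_
    have h1 : (u : G) * ((u : G) * v) ^ n * (u : G)⁻¹ = (((u : G) * v) ^ n)⁻¹ := by
      rw [← conj_pow, ← inv_pow]
      congr 1
      rw [mul_inv_rev, inv_eq_of_mul_eq_one_right hu, inv_eq_of_mul_eq_one_right hv, ← mul_assoc, hu, one_mul]
    rw [hcen _ u hk, mul_inv_cancel_right] at h1
    exact mul_eq_one_iff_eq_inv.2 h1
  have hCp : ∀ {u : G}, p * u = u * p → u ∈ centralizer ({p} : Set G) := fun e => mem_centralizer_singleton_iff.2 e.symm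
  let zc : centralizer ({p} : Set G) := ⟨z, hCp hpz⟩
  let fc : centralizer ({p} : Set G) := ⟨f, hCp W.pf⟩
  let gc : centralizer ({p} : Set G) := ⟨g, hCp W.pg⟩
  have hzfg : zW fc gc = zc := Subtype.ext W.fg
  have hZ : zW (Φ fc) (Φ gc) = Φ zc := by rw [← map_zW, hzfg]
  have d : Dih (Φ fc) (Φ gc) := by
    refine ⟨?_, ?_, ?_, ?_⟩
    · rw [← map_mul, show fc * fc = 1 from Subtype.ext W.f2, map_one]
    · rw [← map_mul, show gc * gc = 1 from Subtype.ext W.g2, map_one]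
    · rw [hZ]; exact fun e => D.pre.gen.ne_one (hodd z (h5 z ((hker zc).1 e)) hz2)
    · rw [hZ, ← map_mul, show zc * zc = 1 from Subtype.ext hz2, map_one]
  obtain ⟨B₀, hB⟩ := exists_rel d
  obtain ⟨x₀, hx₀⟩ := hsurj B₀
  obtain ⟨bc, hbd⟩ : ∃ bc, bc = x₀ ^ 5 := ⟨_, rfl⟩
  have hΦb : Φ bc = B₀ := by
    rw [hbd, map_pow, hx₀, show (5 : ℕ) = 2 * 2 + 1 from rfl, pow_succ, pow_mul, pow_two B₀, hB.sq, one_pow, one_mul]
  have hb2 : (bc : G) * bc = 1 := by
    have h := h5 _ ((hker (x₀ ^ 2)).1 (by rw [map_pow, hx₀, pow_two, hB.sq]))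
    rw [Subgroup.coe_pow, ← pow_mul] at h
    rw [hbd, Subgroup.coe_pow, ← pow_add]
    exact h
  have hbz : z * (bc : G) ≠ (bc : G) * z := fun e => hB.nc (by
    rw [hZ, ← hΦb, ← map_mul, ← map_mul, show zc * bc = bc * zc from Subtype.ext e])
  have hbzc : (z * (bc : G)) ^ 5 = 1 := hinj2 zc bc hz2 hb2 5 (by rw [map_pow, map_mul, hΦb, ← hZ, hB.five])
  have hbf : ((bc : G) * f) ^ 3 = 1 := hinj2 bc fc hb2 W.f2 3 (by rw [map_pow, map_mul, hΦb, hB.threeF])
  have hbg : ((bc : G) * g) ^ 3 = 1 := hinj2 bc gc hb2 W.g2 3 (by rw [map_pow, map_mul, hΦb, hB.threeG])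
  -- conjugate to the central involution
  have hB1 : B₀ ≠ 1 := hB.ne_one
  obtain ⟨h₀, hh₀⟩ := conj_of_inv (by rw [← map_mul, show zc * zc = 1 from Subtype.ext hz2, map_one])
    (fun e => d.zne (hZ.trans e)) hB.sq hB1
  obtain ⟨h, rfl⟩ := hsurj h₀
  have hconj : (h : G) * z * (h : G)⁻¹ = bc := by
    refine congrArg Subtype.val (huniq (h * zc * h⁻¹) bc ?_ hb2 (by rw [map_mul, map_mul, map_inv, hh₀, hΦb]))
    show (h : G) * z * (h : G)⁻¹ * ((h : G) * z * (h : G)⁻¹) = 1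
    rw [show (h : G) * z * (h : G)⁻¹ * ((h : G) * z * (h : G)⁻¹) = h * (z * z) * (h : G)⁻¹ by group, hz2,
      mul_one, mul_inv_cancel]
  have hbcls : IsConj z (bc : G) := isConj_iff.2 ⟨h, hconj⟩
  -- the action of the involution and of the squaring element
  have hpt : ∀ x : centralizer ({p} : Set G), t * x * t⁻¹ ∈ centralizer ({p} : Set G) := fun x => by
    refine mem_centralizer_singleton_iff.2 ?_
    have h1 : t * p⁻¹ * t⁻¹ = p := by
      rw [show t * p⁻¹ * t⁻¹ = (t * p * t⁻¹)⁻¹ by group, W.tp, inv_inv]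
    calc t * (x : G) * t⁻¹ * p = t * (x : G) * t⁻¹ * (t * p⁻¹ * t⁻¹) := by rw [h1]
      _ = t * ((x : G) * p⁻¹) * t⁻¹ := by group
      _ = t * (p⁻¹ * x) * t⁻¹ := by rw [(show Commute (x : G) p from mem_centralizer_singleton_iff.1 x.2).inv_right.eq]
      _ = t * p⁻¹ * t⁻¹ * (t * (x : G) * t⁻¹) := by group
      _ = p * (t * (x : G) * t⁻¹) := by rw [h1]
  have hp3 : σ * p ^ 3 * σ⁻¹ = p := by
    rw [← conj_pow, W.σp, ← pow_mul, show 2 * 3 = 5 + 1 from rfl, pow_succ, W.p5, one_mul]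
  have hps : ∀ x : centralizer ({p} : Set G), σ * x * σ⁻¹ ∈ centralizer ({p} : Set G) := fun x => by
    refine mem_centralizer_singleton_iff.2 ?_
    calc σ * (x : G) * σ⁻¹ * p = σ * (x : G) * σ⁻¹ * (σ * p ^ 3 * σ⁻¹) := by rw [hp3]
      _ = σ * ((x : G) * p ^ 3) * σ⁻¹ := by group
      _ = σ * (p ^ 3 * x) * σ⁻¹ := by
        rw [((show Commute (x : G) p from mem_centralizer_singleton_iff.1 x.2).pow_right 3).eq]
      _ = σ * p ^ 3 * σ⁻¹ * (σ * (x : G) * σ⁻¹) := by group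
      _ = p * (σ * (x : G) * σ⁻¹) := by rw [hp3]
  let τ : centralizer ({p} : Set G) →* centralizer ({p} : Set G) :=
    MonoidHom.mk' (fun x => ⟨t * x * t⁻¹, hpt x⟩) fun a b => Subtype.ext (by
      show t * ((a : G) * b) * t⁻¹ = t * (a : G) * t⁻¹ * (t * (b : G) * t⁻¹)
      group)
  let ψ : centralizer ({p} : Set G) →* centralizer ({p} : Set G) :=
    MonoidHom.mk' (fun x => ⟨σ * x * σ⁻¹, hps x⟩) fun a b => Subtype.ext (by
      show σ * ((a : G) * b) * σ⁻¹ = σ * (a : G) * σ⁻¹ * (σ * (b : G) * σ⁻¹)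
      group)
  have hψk : ∀ x, Φ (ψ x) = 1 ↔ Φ x = 1 := fun x => by
    rw [hker, hker]
    show σ * (x : G) * σ⁻¹ ∈ zpowers p ↔ _
    constructor
    · intro hm
      obtain ⟨k, hk⟩ := mem_zpowers_iff.1 hm
      have e : (x : G) = σ⁻¹ * p ^ k * σ := by rw [hk]; group
      have e3 : σ⁻¹ * p * σ = p ^ 3 := by
        nth_rewrite 1 [← hp3]; group
      rw [e]
      have h1 : σ⁻¹ * p ^ k * σ = (p ^ 3) ^ k := by
        rw [← e3]
        have := conj_zpow (i := k) (a := σ⁻¹) (b := p)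
        rw [inv_inv] at this
        exact this.symm
      rw [h1]
      exact zpow_mem (pow_mem (mem_zpowers p) 3) k
    · intro hm
      obtain ⟨k, hk⟩ := mem_zpowers_iff.1 hm
      rw [← hk, ← conj_zpow, W.σp]
      exact zpow_mem (pow_mem (mem_zpowers p) 2) k
  have hψeq : ∀ {a b}, Φ a = Φ b → Φ (ψ a) = Φ (ψ b) := fun {a b} e => by
    refine inv_mul_eq_one.1 ?_
    rw [← map_inv, ← map_mul, ← map_inv ψ, ← map_mul ψ, hψk, map_mul, map_inv, e, inv_mul_cancel]
  have hτeq : ∀ {a b}, Φ a = Φ b → Φ (τ a) = Φ (τ b) := fun {a b} e => by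
    refine inv_mul_eq_one.1 ?_
    rw [← map_inv, ← map_mul, ← map_inv τ, ← map_mul τ, hker]
    have hm : ((a⁻¹ * b : centralizer ({p} : Set G)) : G) ∈ zpowers p :=
      (hker _).1 (by rw [map_mul, map_inv, e, inv_mul_cancel])
    obtain ⟨k, hk⟩ := mem_zpowers_iff.1 hm
    show t * ((a⁻¹ * b : centralizer ({p} : Set G)) : G) * t⁻¹ ∈ zpowers p
    rw [← hk, ← conj_zpow, W.tp]
    exact zpow_mem (inv_mem (mem_zpowers p)) k
  have hτψ : ∀ x, τ (ψ x) = ψ (τ x) := fun x => Subtype.ext (by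
    show t * (σ * (x : G) * σ⁻¹) * t⁻¹ = σ * (t * (x : G) * t⁻¹) * σ⁻¹
    calc t * (σ * (x : G) * σ⁻¹) * t⁻¹ = t * σ * x * (t * σ)⁻¹ := by group
      _ = σ * t * x * (σ * t)⁻¹ := by rw [W.σt]
      _ = _ := by group)
  have hτf : τ fc = fc := Subtype.ext (by
    show t * f * t⁻¹ = f
    rw [W.tf, mul_inv_cancel_right])
  have hτg : τ gc = gc := Subtype.ext (by
    show t * g * t⁻¹ = g
    rw [W.tg, mul_inv_cancel_right])
  -- the fixed subgroup
  let E : Subgroup A6 := ((Φ.comp τ).eqLocus Φ).map Φ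
  have hE : ∀ x, Φ x ∈ E ↔ Φ (τ x) = Φ x := fun x => by
    constructor
    · rintro ⟨u, hu, e⟩
      have hu' : Φ (τ u) = Φ u := hu
      exact (hτeq e).symm.trans (hu'.trans e)
    · exact fun e => ⟨x, e, rfl⟩
  have hB' : Rel (Φ fc) (Φ gc) (Φ (τ bc)) := by
    have tb2 : (τ bc : G) * (τ bc : G) = 1 := by
      show t * (bc : G) * t⁻¹ * (t * (bc : G) * t⁻¹) = 1
      rw [show t * (bc : G) * t⁻¹ * (t * (bc : G) * t⁻¹) = t * ((bc : G) * bc) * t⁻¹ by group, hb2, mul_one,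
        mul_inv_cancel]
    have hzc' : τ zc = zc := Subtype.ext (by
      show t * z * t⁻¹ = z
      rw [hS.tz T, mul_inv_cancel_right])
    have m : ∀ {u : centralizer ({p} : Set G)} {n : ℕ}, (u : G) ^ n = 1 → Φ (τ u) ^ n = 1 := fun {u n} e => by
      rw [← map_pow, ← map_pow, show u ^ n = 1 from Subtype.ext (by rw [Subgroup.coe_pow]; exact e), map_one,
        map_one]
    have h5' : Φ (bc * fc * gc) ^ 5 = 1 := by rw [map_mul, map_mul, hΦb]; exact hB.five'
    refine ⟨by rw [← map_mul, show τ bc * τ bc = 1 from Subtype.ext tb2, map_one], ?_, ?_, ?_, ?_, ?_⟩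
    · rw [hZ, ← hzc', ← map_mul, ← map_mul]; exact m hbzc
    · rw [← hτf, ← map_mul, ← map_mul]; exact m hbf
    · rw [← hτg, ← map_mul, ← map_mul]; exact m hbg
    · rw [← hτf, ← hτg, ← map_mul, ← map_mul, ← map_mul τ, ← map_mul τ, ← map_pow, ← map_pow]
      have := hτeq (a := (bc * fc * gc) ^ 5) (b := 1) (by rw [map_pow, h5', map_one])
      rwa [map_one, map_one] at this
    · rw [hZ]
      intro e
      apply hbz
      have e1 : zc * τ bc * zc = τ bc := by
        refine huniq _ _ ?_ tb2 ?_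
        · show z * (τ bc : G) * z * (z * (τ bc : G) * z) = 1
          calc z * (τ bc : G) * z * (z * (τ bc : G) * z) = z * (τ bc : G) * (z * z) * (τ bc : G) * z := by group
            _ = z * ((τ bc : G) * (τ bc : G)) * z := by rw [hz2]; group
            _ = 1 := by rw [tb2, mul_one, hz2]
        · rw [map_mul, map_mul, e, mul_assoc, ← map_mul Φ, show zc * zc = 1 from Subtype.ext hz2, map_one,
            mul_one]
      have e2 : z * (t * (bc : G) * t⁻¹) * z = t * (bc : G) * t⁻¹ := congrArg Subtype.val e1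
      have htz := hS.tz T
      calc z * (bc : G) = t⁻¹ * (z * (t * (bc : G) * t⁻¹) * z) * t * z := by
            rw [show z * (t * (bc : G) * t⁻¹) * z = z * t * bc * (t⁻¹ * z) by group, ← htz]
            calc z * (bc : G) = t⁻¹ * (t * z) * bc * (t⁻¹ * t) := by group
              _ = t⁻¹ * (t * z * bc * t⁻¹) * t * (z * z) := by rw [hz2]; group
              _ = t⁻¹ * (t * z * bc * t⁻¹) * (t * z) * z := by group
              _ = t⁻¹ * (t * z * bc * t⁻¹) * (z * t) * z := by rw [htz]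
              _ = _ := by group
        _ = (bc : G) * z := by rw [e2]; group
  have hZ' : zW (Φ gc) (Φ fc) = zW (Φ fc) (Φ gc) := zW_comm d.sqF d.sqG d.sqZ
  have step : ∀ (u v : centralizer ({p} : Set G)), Dih (Φ u) (Φ v) → Rel (Φ u) (Φ v) B₀ →
      zW (Φ u) (Φ v) = Φ zc → ψ u = v → τ v = v →
      wW (Φ u) (Φ v) (Φ (τ bc)) = wW (Φ u) (Φ v) B₀ → τ u = u →
      wW (Φ v) (Φ u) (Φ (τ bc)) = wW (Φ v) (Φ u) B₀ := by
    intro u v du hr hzu hψu hτv hw hτu
    have hzE : Φ zc ∈ E := (hE zc).2 (by rw [show τ zc = zc from Subtype.ext (by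
      show t * z * t⁻¹ = z
      rw [hS.tz T, mul_inv_cancel_right])])
    have hvE : Φ v ∈ E := (hE v).2 (by rw [hτv])
    obtain ⟨w3, w1, wn⟩ := hr.word du
    set r := ψ (wW u v bc) with hr_def
    have hΦw : Φ (wW u v bc) = wW (Φ u) (Φ v) B₀ := by rw [map_wW, hΦb]
    have hrE : Φ r ∈ E := by
      rw [hE, hr_def, hτψ]
      refine hψeq ?_
      rw [map_wW τ, hτu, hτv, map_wW, hw, hΦw]
    have hψz : ψ zc = zc := Subtype.ext (by
      show σ * z * σ⁻¹ = z
      rw [mem_centralizer_singleton_iff.1 W.σC, mul_inv_cancel_right])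
    have hr3 : Φ r ^ 3 = 1 := by rw [hr_def, ← map_pow, ← map_pow, hψk, map_pow, hΦw, w3]
    have hr1 : Φ r ≠ 1 := by rw [hr_def, Ne, hψk, hΦw]; exact w1
    have hzv : zW (Φ v) (Φ u) = Φ zc := (zW_comm du.sqF du.sqG du.sqZ).trans hzu
    have hn : ∀ x ∈ [zW (Φ v) (Φ u), Φ v], ∃ w ∈ [zW (Φ v) (Φ u), Φ v, zW (Φ v) (Φ u) * Φ v],
        Φ r * x = w * Φ r := by
      intro x hx
      rw [hzv] at hx ⊢
      obtain ⟨x', hx', rfl⟩ : ∃ x' ∈ [zc, u], Φ (ψ x') = x := by
        simp only [List.mem_cons, List.not_mem_nil, or_false] at hx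
        rcases hx with rfl | rfl
        exacts [⟨zc, by simp, by rw [hψz]⟩, ⟨u, by simp, by rw [hψu]⟩]
      obtain ⟨w, hw', e⟩ := wn (Φ x') (by
        rw [hzu]
        simp only [List.mem_cons, List.not_mem_nil, or_false] at hx' ⊢
        rcases hx' with rfl | rfl <;> simp)
      obtain ⟨w', hw'', rfl⟩ : ∃ w' ∈ [zc, u, zc * u], Φ w' = w := by
        rw [hzu] at hw'
        simp only [List.mem_cons, List.not_mem_nil, or_false] at hw'
        rcases hw' with rfl | rfl | rfl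
        exacts [⟨zc, by simp, rfl⟩, ⟨u, by simp, rfl⟩, ⟨zc * u, by simp, map_mul _ _ _⟩]
      refine ⟨Φ (ψ w'), ?_, ?_⟩
      · simp only [List.mem_cons, List.not_mem_nil, or_false] at hw'' ⊢
        rcases hw'' with rfl | rfl | rfl
        · left; rw [hψz]
        · right; left; rw [hψu]
        · right; right; rw [map_mul, map_mul, hψz, hψu]
      · rw [hr_def, ← map_mul Φ, ← map_mul Φ, ← map_mul ψ, ← map_mul ψ]
        exact hψeq (by rw [map_mul, map_mul, hΦw, e])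
    obtain ⟨w, hw', x, hx, e⟩ := (hr.symm du).tri du.symm hr3 hr1 hn
    have hwE : w ∈ E := by
      rw [hzv] at hw'
      simp only [List.mem_cons, List.not_mem_nil, or_false] at hw'
      rcases hw' with rfl | rfl | rfl | rfl
      exacts [one_mem _, hzE, hvE, mul_mem hzE hvE]
    have hxE : x ∈ E := by
      have : x = w⁻¹ * Φ r * w⁻¹ := by rw [e]; group
      rw [this]
      exact mul_mem (mul_mem (inv_mem hwE) hrE) (inv_mem hwE)
    have hWE : wW (Φ v) (Φ u) B₀ ∈ E := by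
      simp only [List.mem_cons, List.not_mem_nil, or_false] at hx
      rcases hx with rfl | rfl
      · exact hxE
      · have h3 := ((hr.symm du).word du.symm).1
        have : wW (Φ v) (Φ u) B₀ = (wW (Φ v) (Φ u) B₀ * wW (Φ v) (Φ u) B₀) * (wW (Φ v) (Φ u) B₀ * wW (Φ v) (Φ u) B₀) := by
          rw [← mul_assoc, ← pow_three', h3, one_mul]
        rw [this]
        exact mul_mem hxE hxE
    have e2 : Φ (wW v u bc) = wW (Φ v) (Φ u) B₀ := by rw [map_wW, hΦb]
    rw [← e2, hE, map_wW τ, hτv, hτu, map_wW, e2] at hWE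
    exact hWE
  have hψf : ψ fc = gc := Subtype.ext W.σf
  have hψg : ψ gc = fc := Subtype.ext W.σg
  have hiff : wW (Φ fc) (Φ gc) (Φ (τ bc)) = wW (Φ fc) (Φ gc) B₀ ↔
      wW (Φ gc) (Φ fc) (Φ (τ bc)) = wW (Φ gc) (Φ fc) B₀ :=
    ⟨fun e => step fc gc d hB hZ hψf hτg e hτf,
      fun e => step gc fc d.symm (hB.symm d) (hZ'.trans hZ) hψg hτf e hτg⟩
  have hτb2 : (τ bc : G) * (τ bc : G) = 1 := by
    show t * (bc : G) * t⁻¹ * (t * (bc : G) * t⁻¹) = 1
    rw [show t * (bc : G) * t⁻¹ * (t * (bc : G) * t⁻¹) = t * ((bc : G) * bc) * t⁻¹ by group, hb2, mul_one,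
      mul_inv_cancel]
  have htb : t * (bc : G) * t⁻¹ = bc := by
    rcases hB.unique d hB' hiff with e | e
    · exact congrArg Subtype.val (huniq (τ bc) bc hτb2 hb2 (e.trans hΦb.symm))
    · exfalso
      have e1 : τ bc = zc * bc * zc := huniq _ _ hτb2 (by
        show z * (bc : G) * z * (z * (bc : G) * z) = 1
        calc z * (bc : G) * z * (z * (bc : G) * z) = z * (bc : G) * (z * z) * (bc : G) * z := by group
          _ = z * ((bc : G) * bc) * z := by rw [hz2]; group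
          _ = 1 := by rw [hb2, mul_one, hz2]) (by rw [e, map_mul, map_mul, hZ, hΦb])
      have e1' : t * (bc : G) * t⁻¹ = z * bc * z := congrArg Subtype.val e1
      obtain ⟨q, hqt, hqz, hfalse⟩ := W.twist
      have htz := hS.tz T
      have hcomm : (bc : G) * (t * z) = t * z * bc := by
        have h1 : t * (bc : G) = z * bc * z * t := mul_inv_eq_iff_eq_mul.1 e1'
        have h2 : t * z * (bc : G) = bc * z * t := by
          rw [htz, mul_assoc, h1, ← mul_assoc, ← mul_assoc, ← mul_assoc, hz2, one_mul]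
        rw [h2, htz, ← mul_assoc]
      obtain ⟨b', hb'⟩ : ∃ b', b' = q⁻¹ * (bc : G) * q := ⟨_, rfl⟩
      have hb't : b' * t = t * b' := by
        have h1 : t = q⁻¹ * (t * z) * q := by rw [← hqt]; group
        calc b' * t = q⁻¹ * ((bc : G) * (t * z)) * q := by rw [hb']; nth_rewrite 1 [h1]; group
          _ = q⁻¹ * (t * z * bc) * q := by rw [hcomm]
          _ = t * b' := by rw [hb']; nth_rewrite 2 [h1]; group
      have hb'2 : b' * b' = 1 := by
        rw [hb', show q⁻¹ * (bc : G) * q * (q⁻¹ * (bc : G) * q) = q⁻¹ * ((bc : G) * bc) * q by group, hb2,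
          mul_one, inv_mul_cancel]
      have hb'z : IsConj z b' := hbcls.trans (isConj_iff.2 ⟨q⁻¹, by rw [hb', inv_inv]⟩)
      have hb'y := ((hS.mem_H T).1 ((hS.invol_cent_t T P hb't).1 ⟨hb'2, hb'z⟩).1).1
      refine hfalse (centralizer {(bc : G)}) (fun hm => hbz (mem_centralizer_singleton_iff.1 hm))
        (mem_centralizer_singleton_iff.2 (mem_centralizer_singleton_iff.1 bc.2).symm) ?_
      refine mem_centralizer_singleton_iff.2 ?_
      calc q * y * q⁻¹ * (bc : G) = q * (y * b') * q⁻¹ := by rw [hb']; group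
        _ = q * (b' * y) * q⁻¹ := by rw [hb'y]
        _ = (bc : G) * (q * y * q⁻¹) := by rw [hb']; group
  have hbt : (bc : G) * t = t * bc := (mul_inv_eq_iff_eq_mul.1 htb).symm
  obtain ⟨hbH, -, -⟩ := (hS.invol_cent_t T P hbt).1 ⟨hb2, hbcls⟩
  refine ⟨bc, hb2, hbH, mem_centralizer_singleton_iff.1 bc.2, hbt, ((hS.mem_H T).1 hbH).1, hbz, hbzc, hbf, hbg, ?_⟩
  have hk : ((bc : G) * f * g) ^ 5 ∈ zpowers p := by
    have := (hker ((bc * fc * gc) ^ 5)).1 (by rw [map_pow, map_mul, map_mul, hΦb]; exact hB.five')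
    simpa using this
  refine hodd _ (h5 _ hk) ?_
  have h1 : t * ((bc : G) * f * g) ^ 5 * t⁻¹ = ((bc : G) * f * g) ^ 5 := by
    have hc : Commute t ((bc : G) * f * g) :=
      ((show Commute t (bc : G) from hbt.symm).mul_right (show Commute t f from W.tf)).mul_right
        (show Commute t g from W.tg)
    rw [(hc.pow_right 5).eq, mul_inv_cancel_right]
  obtain ⟨k, hk'⟩ := mem_zpowers_iff.1 hk
  rw [← hk', ← conj_zpow, W.tp, inv_zpow] at h1
  rw [← hk']
  exact mul_eq_one_iff_eq_inv.2 h1.symm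

end CfsgLib.SuzIso
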